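import Mathlib

/-!
# Small facts about the alternating group of degree five
-/

set_option autoImplicit false

namespace Cfsg.Agent.Lib.InvChar.SelfThree.AFive

open Equiv

/-- The three-cycle `(0 1 2)`. -/
def c : alternatingGroup (Fin 5) := ⟨swap 0 1 * swap 1 2, Perm.mem_alternatingGroup.mpr (by decide +kernel)⟩

/-- `(0 1)(3 4)`. -/
def t : alternatingGroup (Fin 5) := ⟨swap 0 1 * swap 3 4, Perm.mem_alternatingGroup.mpr (by decide +kernel)⟩

/-- `(0 1)(2 3)`. -/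
def x : alternatingGroup (Fin 5) := ⟨swap 0 1 * swap 2 3, Perm.mem_alternatingGroup.mpr (by decide +kernel)⟩

/-- `(0 1)(2 4)`. -/
def y : alternatingGroup (Fin 5) := ⟨swap 0 1 * swap 2 4, Perm.mem_alternatingGroup.mpr (by decide +kernel)⟩

theorem t_conj : t * c * t⁻¹ = c⁻¹ := by decide

theorem c_facts : c ^ 3 = 1 ∧ c ≠ 1 := by decide

theorem xy : (x * y) ^ 3 = 1 ∧ x * y ≠ 1 ∧ x * x = 1 ∧ y * y = 1 := by decide

set_option maxRecDepth 100000 in
theorem comm_facts : ∀ a : alternatingGroup (Fin 5), a * (c * a * c⁻¹) = c * a * c⁻¹ * a →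
    a ^ 3 ≠ 1 → a ^ 2 = 1 ∧ ((a : Perm (Fin 5)) 4 = 4 ∨ (a : Perm (Fin 5)) 3 = 3) := by decide +kernel

set_option maxRecDepth 100000 in
theorem inverter_facts : ∀ a : alternatingGroup (Fin 5), a * c * a⁻¹ = c⁻¹ →
    (a : Perm (Fin 5)) 3 = 4 ∧ (a : Perm (Fin 5)) 4 = 3 := by decide +kernel

set_option maxRecDepth 100000 in
theorem card_four : ∀ i : Fin 5, (i = 3 ∨ i = 4) →
    (Finset.univ.filter fun a : alternatingGroup (Fin 5) =>
      a ^ 2 = 1 ∧ (a : Perm (Fin 5)) i = i).card = 4 := by decide +kernel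

set_option maxRecDepth 100000 in
theorem conj_four : ∀ i : Fin 5, (i = 3 ∨ i = 4) → ∀ a : alternatingGroup (Fin 5),
    a ^ 2 = 1 → (a : Perm (Fin 5)) i = i → ∀ b : alternatingGroup (Fin 5),
    b ^ 2 = 1 → (b : Perm (Fin 5)) i = i → (a * b) ^ 2 = 1 := by decide +kernel

end Cfsg.Agent.Lib.InvChar.SelfThree.AFive
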