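import Cfsg.Agent.Lib.InvChar.SelfThree.Basic
import Cfsg.Agent.Lib.InvChar.SelfThree.AFiveFacts

/-!
# Self-centralizing elements of order three: extensions of `A₅`
-/

set_option autoImplicit false
set_option linter.unusedSectionVars false
set_option linter.dupNamespace false
set_option linter.style.haveILetI false

namespace Cfsg.Agent.Lib.InvChar.SelfThree

open Subgroup
open scoped commutatorElement

universe u v

variable {G : Type u} [Group G] [Finite G] {g : G}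

theorem card_comap {Q : Type v} [Group Q] [Finite Q] (φ : G →* Q) (hφ : Function.Surjective φ)
    (U : Subgroup Q) : Nat.card (U.comap φ) = Nat.card φ.ker * Nat.card U := by
  have h1 := Subgroup.card_mul_index (U.comap φ)
  have h2 := Subgroup.card_mul_index φ.ker
  have h3 := Subgroup.card_mul_index U
  rw [Subgroup.index_comap_of_surjective U hφ] at h1
  have h4 : φ.ker.index = Nat.card Q := by
    rw [Subgroup.index_ker, MonoidHom.range_eq_top.mpr hφ, Subgroup.card_top]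
  rw [h4, ← h3] at h2
  have h0 : 0 < U.index := Nat.pos_of_ne_zero Subgroup.index_ne_zero_of_finite
  apply Nat.eq_of_mul_eq_mul_right h0
  rw [h1, ← h2]; ring

theorem Inv.comap {Q : Type v} [Group Q] [Finite Q] (φ : G →* Q) (hφ : Function.Surjective φ)
    (hc : ¬ 3 ∣ Nat.card φ.ker) {U : Subgroup Q} (hU : Inv (φ g) U) : Inv g (U.comap φ) := by
  refine ⟨fun x hx => ?_, ?_⟩
  · rw [mem_comap, map_mul, map_mul, map_inv]
    exact hU.conj _ hx
  · rw [card_comap φ hφ U]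
    exact fun h => ((Nat.Prime.dvd_mul Nat.prime_three).mp h).elim hc hU.cop

theorem comm_prod_left (a b c : G) : ⁅a * b, c⁆ = a * ⁅b, c⁆ * a⁻¹ * ⁅a, c⁆ := by group

theorem comm_prod_right (a b c : G) : ⁅a, b * c⁆ = ⁅a, b⁆ * (b * ⁅a, c⁆ * b⁻¹) := by group

/-- Two four-group preimages force an elementary abelian kernel. -/
theorem elementary (hg : SelfThree g) {Q : Type v} [Group Q] (φ : G →* Q)
    (hc : ¬ 3 ∣ Nat.card φ.ker) {x y : G} (hx2 : x * x ∈ φ.ker) (hy2 : y * y ∈ φ.ker)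
    (hx : ∃ s : G, SelfThree s ∧ ∃ T : Subgroup G, Inv s T ∧ φ.ker ≤ T ∧ x ∈ T)
    (hy : ∃ s : G, SelfThree s ∧ ∃ T : Subgroup G, Inv s T ∧ φ.ker ≤ T ∧ y ∈ T)
    (hxy : orderOf (φ (x * y)) = 3) :
    (∀ a ∈ φ.ker, ∀ b ∈ φ.ker, a * b = b * a) ∧ (∀ a ∈ φ.ker, a * a = 1) ∧
      ∀ T : Subgroup G, ∀ s : G, SelfThree s → Inv s T → φ.ker ≤ T → x ∈ T →
        Nat.card (φ.ker ⊓ centralizer (T : Set G) : Subgroup G) ^ 2 = Nat.card φ.ker := by
  classical
  set E := φ.ker with hE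
  have hEn : E.Normal := MonoidHom.normal_ker φ
  -- the structure of the map `n ↦ ⁅n, z⁆`
  have key : ∀ z : G, z * z ∈ E →
      (∃ s : G, SelfThree s ∧ ∃ T : Subgroup G, Inv s T ∧ E ≤ T ∧ z ∈ T) →
      ∃ f : E →* E, (∀ n : E, (f n : G) = ⁅(n : G), z⁆) ∧
        (∀ n : E, (f n : G) ∈ E ⊓ centralizer ({z} : Set G)) ∧
        ∀ T : Subgroup G, ∀ s : G, SelfThree s → Inv s T → E ≤ T → z ∈ T → ∀ n : E,
          (f n : G) ∈ centralizer (T : Set G) := by
    intro z hz2 ⟨s, hs, T, hT, hET, hzT⟩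
    have hcent : ∀ n ∈ E, ∀ m ∈ T, ⁅n, z⁆ * m = m * ⁅n, z⁆ := fun n hn m hm =>
      commutatorElement_eq_one_iff_mul_comm.mp (hT.comm3 hs (hET hn) hzT hm)
    have hmem : ∀ n ∈ E, ⁅n, z⁆ ∈ E := fun n hn => by
      rw [show ⁅n, z⁆ = n * (z * n⁻¹ * z⁻¹) by group]
      exact mul_mem hn (hEn.conj_mem _ (inv_mem hn) z)
    refine ⟨MonoidHom.mk' (fun n => ⟨⁅(n : G), z⁆, hmem _ n.2⟩) fun a b => Subtype.ext ?_,
      fun n => rfl, fun n => mem_inf.mpr ⟨hmem _ n.2, ?_⟩, ?_⟩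
    · show ⁅(a : G) * b, z⁆ = ⁅(a : G), z⁆ * ⁅(b : G), z⁆
      rw [comm_prod_left, ← hcent _ b.2 _ (hET a.2), mul_inv_cancel_right,
        hcent _ b.2 _ (hET (hmem _ a.2))]
    · rw [mem_centralizer_singleton_iff]
      exact hcent _ n.2 z hzT
    · intro T' s' hs' hT' hET' hzT' n
      rw [mem_centralizer_iff]
      exact fun m hm => (commutatorElement_eq_one_iff_mul_comm.mp
        (hT'.comm3 hs' (hET' n.2) hzT' hm)).symm
  obtain ⟨fx, fx_eq, fx_mem, fx_T⟩ := key x hx2 hx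
  obtain ⟨fy, fy_eq, fy_mem, fy_T⟩ := key y hy2 hy
  set Cx : Subgroup G := E ⊓ centralizer ({x} : Set G) with hCx
  set Cy : Subgroup G := E ⊓ centralizer ({y} : Set G) with hCy
  -- trivial intersection
  have hint : ∀ n ∈ Cx, n ∈ Cy → n = 1 := by
    intro n hnx hny
    obtain ⟨hnE, hnx⟩ := mem_inf.mp hnx
    obtain ⟨-, hny⟩ := mem_inf.mp hny
    rw [mem_centralizer_singleton_iff] at hnx hny
    obtain ⟨j, hj⟩ := (hxy ▸ orderOf_map_dvd φ (x * y) : 3 ∣ orderOf (x * y))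
    have hj0 : j ≠ 0 := fun h => (orderOf_pos (x * y)).ne' (by rw [hj, h, mul_zero])
    have hw : orderOf ((x * y) ^ j) = 3 := by
      rw [orderOf_pow_of_dvd hj0 ⟨3, by rw [hj, mul_comm]⟩, hj,
        Nat.mul_div_cancel _ (Nat.pos_of_ne_zero hj0)]
    have hcomm : Commute n (x * y) := Commute.mul_right hnx hny
    exact (⟨fun a ha => hEn.conj_mem a ha _, hc⟩ : Inv ((x * y) ^ j) E).eq_one_of_comm
      (hg.of_orderOf hw) hnE (hcomm.pow_right j).eq
  -- counting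
  let Ix : E → Cx := fun n => ⟨fx n, fx_mem n⟩
  let Iy : E → Cy := fun n => ⟨fy n, fy_mem n⟩
  let m : Cx × Cy → E := fun p => ⟨p.1.1 * p.2.1, mul_mem (mem_inf.mp p.1.2).1 (mem_inf.mp p.2.2).1⟩
  have hm : Function.Injective m := by
    intro p q hpq
    have h : p.1.1 * p.2.1 = q.1.1 * q.2.1 := Subtype.mk.inj hpq
    have h1 : q.1.1⁻¹ * p.1.1 = q.2.1 * p.2.1⁻¹ := by
      calc q.1.1⁻¹ * p.1.1 = q.1.1⁻¹ * (p.1.1 * p.2.1) * p.2.1⁻¹ := by group
        _ = _ := by rw [h]; group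
    have h2 := hint _ (mul_mem (inv_mem q.1.2) p.1.2) (h1 ▸ mul_mem q.2.2 (inv_mem p.2.2))
    have e1 : q.1.1 = p.1.1 := inv_mul_eq_one.mp h2
    rw [e1] at h
    exact Prod.ext (Subtype.ext e1.symm) (Subtype.ext (mul_left_cancel h))
  have hle : Nat.card Cx * Nat.card Cy ≤ Nat.card E := by
    rw [← Nat.card_prod]; exact Nat.card_le_card_of_injective m hm
  have hker : ∀ (f : E →* E) (z : G), (∀ n : E, (f n : G) = ⁅(n : G), z⁆) →
      Nat.card E = Nat.card (E ⊓ centralizer ({z} : Set G) : Subgroup G) * Nat.card f.range := by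
    intro f z hf
    rw [← Subgroup.card_mul_index f.ker, Subgroup.index_ker]
    refine congrArg (· * _) (Nat.card_congr ⟨fun n => ⟨n.1.1, mem_inf.mpr ⟨n.1.2, ?_⟩⟩,
      fun n => ⟨⟨n.1, (mem_inf.mp n.2).1⟩, ?_⟩, fun n => rfl, fun n => rfl⟩)
    · rw [mem_centralizer_singleton_iff, ← commutatorElement_eq_one_iff_mul_comm, ← hf]
      exact congrArg Subtype.val (MonoidHom.mem_ker.mp n.2)
    · refine MonoidHom.mem_ker.mpr (Subtype.ext ?_)
      rw [hf]
      exact commutatorElement_eq_one_iff_mul_comm.mpr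
        (mem_centralizer_singleton_iff.mp (mem_inf.mp n.2).2)
  have hrx : ∀ (f : E →* E) (C : Subgroup G), (∀ n : E, (f n : G) ∈ C) →
      Nat.card f.range ≤ Nat.card C := fun f C hf =>
    Nat.card_le_card_of_injective (fun r => ⟨(r.1 : G), by obtain ⟨n, hn⟩ := r.2; rw [← hn]; exact hf n⟩)
      fun a b h => Subtype.ext (Subtype.ext (Subtype.mk.inj h))
  have ex := hker fx x fx_eq
  have ey := hker fy y fy_eq
  rw [← hCx] at ex
  rw [← hCy] at ey
  have lx := hrx fx Cx fx_mem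
  have ly := hrx fy Cy fy_mem
  have hpos : 0 < Nat.card Cx := Nat.card_pos
  have hpos' : 0 < Nat.card Cy := Nat.card_pos
  have hrxe : Nat.card fx.range = Nat.card Cx := by
    have : Nat.card Cy ≤ Nat.card fx.range := by
      apply Nat.le_of_mul_le_mul_left (ex ▸ hle) hpos
    have h' : Nat.card Cx ≤ Nat.card fy.range := by
      apply Nat.le_of_mul_le_mul_left ?_ hpos'
      rw [← ey, mul_comm]; exact hle
    omega
  have hrye : Nat.card fy.range = Nat.card Cy := by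
    have : Nat.card Cy ≤ Nat.card fx.range := by
      apply Nat.le_of_mul_le_mul_left (ex ▸ hle) hpos
    have h' : Nat.card Cx ≤ Nat.card fy.range := by
      apply Nat.le_of_mul_le_mul_left ?_ hpos'
      rw [← ey, mul_comm]; exact hle
    omega
  have hsurj : ∀ (f : E →* E) (C : Subgroup G), (∀ n : E, (f n : G) ∈ C) →
      Nat.card f.range = Nat.card C → ∀ c ∈ C, ∃ n : E, (f n : G) = c := by
    intro f C hf hcard c hc'
    let r : f.range → C := fun r => ⟨(r.1 : G), by obtain ⟨n, hn⟩ := r.2; rw [← hn]; exact hf n⟩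
    have hr : Function.Bijective r := (Nat.bijective_iff_injective_and_card r).mpr
      ⟨fun a b h => Subtype.ext (Subtype.ext (Subtype.mk.inj h)), hcard⟩
    obtain ⟨⟨_, n, rfl⟩, hn⟩ := hr.2 ⟨c, hc'⟩
    exact ⟨n, congrArg Subtype.val hn⟩
  have hmsurj : Function.Surjective m := by
    refine ((Nat.bijective_iff_injective_and_card m).mpr ⟨hm, ?_⟩).2
    rw [Nat.card_prod]
    refine le_antisymm hle ?_
    rw [ex, hrxe]
    refine Nat.mul_le_mul_left _ ?_
    have : Nat.card Cx * Nat.card Cy ≤ Nat.card Cy * Nat.card Cy := by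
      calc _ ≤ Nat.card E := hle
        _ = _ := by rw [ey, hrye]
    exact Nat.le_of_mul_le_mul_right this hpos'
  -- each part is central in `E` and has exponent two
  obtain ⟨sx, hsx, Tx, hTx, hETx, hxTx⟩ := hx
  obtain ⟨sy, hsy, Ty, hTy, hETy, hyTy⟩ := hy
  have hcen : ∀ (f : E →* E) (C : Subgroup G) (T : Subgroup G), E ≤ T →
      (∀ n : E, (f n : G) ∈ centralizer (T : Set G)) → (∀ c ∈ C, ∃ n : E, (f n : G) = c) →
      ∀ c ∈ C, ∀ e ∈ E, c * e = e * c := by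
    intro f C T hT hfT hs c hc' e he
    obtain ⟨n, rfl⟩ := hs c hc'
    exact (mem_centralizer_iff.mp (hfT n) e (hT he)).symm
  have cx := hcen fx Cx Tx hETx (fx_T Tx sx hsx hTx hETx hxTx) (hsurj fx Cx fx_mem hrxe)
  have cy := hcen fy Cy Ty hETy (fy_T Ty sy hsy hTy hETy hyTy) (hsurj fy Cy fy_mem hrye)
  have hdec : ∀ a ∈ E, ∃ c ∈ Cx, ∃ d ∈ Cy, c * d = a := fun a ha => by
    obtain ⟨p, hp⟩ := hmsurj ⟨a, ha⟩
    exact ⟨p.1.1, p.1.2, p.2.1, p.2.2, congrArg Subtype.val hp⟩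
  have hcomm : ∀ a ∈ E, ∀ b ∈ E, a * b = b * a := by
    intro a ha b hb
    obtain ⟨c, hc', d, hd, rfl⟩ := hdec a ha
    exact (Commute.mul_left (cx c hc' b hb) (cy d hd b hb)).eq
  have hexp : ∀ (z : G) (f : E →* E), z * z ∈ E → (∀ n : E, (f n : G) = ⁅(n : G), z⁆) →
      (∀ n : E, (f n : G) ∈ E ⊓ centralizer ({z} : Set G)) →
      ∀ n : E, (f n : G) * (f n : G) = 1 := by
    intro z f hz2 hf hfm n
    have h1 : ⁅(n : G), z * z⁆ = 1 :=
      commutatorElement_eq_one_iff_mul_comm.mpr (hcomm _ n.2 _ hz2)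
    have h2 := mem_centralizer_singleton_iff.mp (mem_inf.mp (hfm n)).2
    rw [comm_prod_right, ← hf, ← h2, mul_inv_cancel_right] at h1
    exact h1
  refine ⟨hcomm, fun a ha => ?_, fun T s hs hT hET hxT => ?_⟩
  · obtain ⟨c, hc', d, hd, rfl⟩ := hdec a ha
    obtain ⟨n, rfl⟩ := hsurj fx Cx fx_mem hrxe c hc'
    obtain ⟨k, rfl⟩ := hsurj fy Cy fy_mem hrye d hd
    have e : (fy k : G) * (fx n : G) = (fx n : G) * (fy k : G) :=
      hcomm _ (fy k).2 _ (fx n).2
    calc (fx n : G) * (fy k : G) * ((fx n : G) * (fy k : G))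
        = (fx n : G) * ((fy k : G) * (fx n : G)) * (fy k : G) := by group
      _ = (fx n : G) * ((fx n : G) * (fy k : G)) * (fy k : G) := by rw [e]
      _ = ((fx n : G) * (fx n : G)) * ((fy k : G) * (fy k : G)) := by group
      _ = 1 := by rw [hexp x fx hx2 fx_eq fx_mem, hexp y fy hy2 fy_eq fy_mem, mul_one]
  · have e : E ⊓ centralizer (T : Set G) = Cx := by
      refine le_antisymm (fun c hc' => mem_inf.mpr ⟨(mem_inf.mp hc').1, ?_⟩) fun c hc' => ?_
      · rw [mem_centralizer_singleton_iff]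
        exact (mem_centralizer_iff.mp (mem_inf.mp hc').2 x hxT).symm
      · refine mem_inf.mpr ⟨(mem_inf.mp hc').1, ?_⟩
        obtain ⟨n, rfl⟩ := hsurj fx Cx fx_mem hrxe c hc'
        exact fx_T T s hs hT hET hxT n
    rw [e, ex, hrxe, sq]

/-- The kernel of a map onto `A₅` with kernel of order prime to three, with its structure. -/
structure FiveData (g : G) where
  φ : G →* alternatingGroup (Fin 5)
  surj : Function.Surjective φ
  cop : ¬ 3 ∣ Nat.card φ.ker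
  map_g : φ g = AFive.c

theorem fiveData_of_hom (hg : SelfThree g) (φ : G →* alternatingGroup (Fin 5))
    (hφ : Function.Surjective φ) (hc : ¬ 3 ∣ Nat.card φ.ker) :
    ∃ d : FiveData g, d.φ.ker = φ.ker := by
  have hg' := hg.map φ hφ hc
  have hco : orderOf AFive.c = 3 := by
    have : Fact (Nat.Prime 3) := ⟨Nat.prime_three⟩
    exact orderOf_eq_prime AFive.c_facts.1 AFive.c_facts.2
  obtain ⟨z, hz⟩ := hg'.exists_conj hco
  obtain ⟨z', hz'⟩ : ∃ z', z' * φ g * z'⁻¹ = AFive.c := by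
    rcases hz with h | h
    · exact ⟨z, h⟩
    · refine ⟨AFive.t * z, ?_⟩
      calc AFive.t * z * φ g * (AFive.t * z)⁻¹ = AFive.t * (z * φ g * z⁻¹) * AFive.t⁻¹ := by group
        _ = AFive.t * AFive.c⁻¹ * AFive.t⁻¹ := by rw [h]
        _ = (AFive.t * AFive.c * AFive.t⁻¹)⁻¹ := by group
        _ = AFive.c := by rw [AFive.t_conj, inv_inv]
  have hk : ((MulAut.conj z').toMonoidHom.comp φ).ker = φ.ker :=
    MonoidHom.ker_comp_of_injective φ _ (MulAut.conj z').injective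
  exact ⟨⟨(MulAut.conj z').toMonoidHom.comp φ, (MulAut.conj z').surjective.comp hφ, hk.symm ▸ hc, hz'⟩, hk⟩

namespace FiveData

/-- The involutions of `A₅` fixing `i`, together with `1`. -/
noncomputable def fourSub (i : Fin 5) (hi : i = 3 ∨ i = 4) : Subgroup (alternatingGroup (Fin 5)) where
  carrier := {a | a ^ 2 = 1 ∧ (a : Equiv.Perm (Fin 5)) i = i}
  one_mem' := ⟨one_pow 2, rfl⟩
  mul_mem' := fun {a b} ha hb => ⟨AFive.conj_four i hi a ha.1 ha.2 b hb.1 hb.2, by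
    rw [Subgroup.coe_mul, Equiv.Perm.mul_apply, hb.2, ha.2]⟩
  inv_mem' := fun {a} ha => by
    have h : a⁻¹ = a := inv_eq_of_mul_eq_one_right (by rw [← pow_two]; exact ha.1)
    show a⁻¹ ∈ {a | _}
    rw [h]; exact ha

theorem card_fourSub (i : Fin 5) (hi : i = 3 ∨ i = 4) : Nat.card (fourSub i hi) = 4 := by
  classical
  rw [← AFive.card_four i hi, ← Fintype.card_subtype, ← Nat.card_eq_fintype_card]
  exact Nat.card_congr (Equiv.subtypeEquivRight fun a => Iff.rfl)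

theorem inv_fourSub (i : Fin 5) (hi : i = 3 ∨ i = 4) : Inv AFive.c (fourSub i hi) := by
  refine ⟨fun a ha => ⟨by rw [conj_pow, ha.1]; group, ?_⟩, by rw [card_fourSub]; decide⟩
  have hc : (AFive.c : Equiv.Perm (Fin 5)) i = i := by rcases hi with rfl | rfl <;> decide +kernel
  have hc' : ((AFive.c⁻¹ : alternatingGroup (Fin 5)) : Equiv.Perm (Fin 5)) i = i := by
    rcases hi with rfl | rfl <;> decide +kernel
  rw [Subgroup.coe_mul, Subgroup.coe_mul, Equiv.Perm.mul_apply, Equiv.Perm.mul_apply, hc', ha.2, hc]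

variable (d : FiveData g) (hg : SelfThree g)

theorem card_eq : Nat.card G = 60 * Nat.card d.φ.ker := by
  have h60 : Nat.card (alternatingGroup (Fin 5)) = 60 := by
    rw [nat_card_alternatingGroup, Nat.card_fin]; rfl
  rw [← Subgroup.card_mul_index d.φ.ker, Subgroup.index_ker,
    MonoidHom.range_eq_top.mpr d.surj, Subgroup.card_top, h60, mul_comm]

theorem inv_ker : Inv g d.φ.ker :=
  ⟨fun a ha => (MonoidHom.normal_ker d.φ).conj_mem a ha g, d.cop⟩

theorem inv_comap (i : Fin 5) (hi : i = 3 ∨ i = 4) : Inv g ((fourSub i hi).comap d.φ) :=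
  Inv.comap d.φ d.surj d.cop (d.map_g.symm ▸ inv_fourSub i hi)

include hg

theorem elem :
    (∀ a ∈ d.φ.ker, ∀ b ∈ d.φ.ker, a * b = b * a) ∧ (∀ a ∈ d.φ.ker, a * a = 1) ∧
      (d.φ.ker ≠ ⊥ → 16 ≤ Nat.card d.φ.ker) := by
  obtain ⟨x, hx⟩ := d.surj AFive.x
  obtain ⟨y, hy⟩ := d.surj AFive.y
  have hxT : x ∈ (fourSub 4 (Or.inr rfl)).comap d.φ := by
    rw [mem_comap, hx]
    exact ⟨by rw [pow_two]; exact AFive.xy.2.2.1, by decide +kernel⟩
  have hyT : y ∈ (fourSub 3 (Or.inl rfl)).comap d.φ := by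
    rw [mem_comap, hy]
    exact ⟨by rw [pow_two]; exact AFive.xy.2.2.2, by decide +kernel⟩
  have : Fact (Nat.Prime 3) := ⟨Nat.prime_three⟩
  obtain ⟨h1, h2, h3⟩ := elementary hg d.φ d.cop (x := x) (y := y)
    (by rw [MonoidHom.mem_ker, map_mul, hx]; exact AFive.xy.2.2.1)
    (by rw [MonoidHom.mem_ker, map_mul, hy]; exact AFive.xy.2.2.2)
    ⟨g, hg, _, d.inv_comap 4 (Or.inr rfl), MonoidHom.ker_le_comap _ _, hxT⟩
    ⟨g, hg, _, d.inv_comap 3 (Or.inl rfl), MonoidHom.ker_le_comap _ _, hyT⟩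
    (by rw [map_mul, hx, hy]; exact orderOf_eq_prime AFive.xy.1 AFive.xy.2.1)
  refine ⟨h1, h2, fun hne => ?_⟩
  have h4 := h3 _ g hg (d.inv_comap 4 (Or.inr rfl)) (MonoidHom.ker_le_comap _ _) hxT
  have h5 := ((d.inv_ker).centralizer_inf (d.inv_comap 4 (Or.inr rfl))).card_mod_three hg
  set k := Nat.card (d.φ.ker ⊓ centralizer ((((fourSub 4 (Or.inr rfl)).comap d.φ : Subgroup G)) : Set G) : Subgroup G)
  have h6 : 1 < Nat.card d.φ.ker := (Subgroup.one_lt_card_iff_ne_bot _).mpr hne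
  have : k ≠ 1 := fun h => by rw [h] at h4; omega
  have : 4 ≤ k := by omega
  rw [← h4, pow_two]
  exact le_trans (by norm_num) (Nat.mul_le_mul this this)

/-- Invariant subgroups are the kernel or lie in one of two classes of preimages. -/
theorem inv_cases {D : Subgroup G} (hD : Inv g D) (hE : d.φ.ker ≤ D) :
    D = d.φ.ker ∨ ∃ (i : Fin 5) (hi : i = 3 ∨ i = 4), D = (fourSub i hi).comap d.φ := by
  classical
  have hW : ∀ a ∈ D, (d.φ a) ^ 2 = 1 ∧ ((d.φ a : Equiv.Perm (Fin 5)) 4 = 4 ∨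
      (d.φ a : Equiv.Perm (Fin 5)) 3 = 3) := by
    intro a ha
    by_cases h3 : d.φ a ^ 3 = 1
    · have h1 : d.φ a = 1 := by
        by_contra hne
        have : Fact (Nat.Prime 3) := ⟨Nat.prime_three⟩
        have ho : orderOf (d.φ a) = 3 := orderOf_eq_prime h3 hne
        exact hD.cop (ho ▸ (orderOf_map_dvd d.φ a).trans
          ((Subgroup.orderOf_mk a ha) ▸ orderOf_dvd_natCard (⟨a, ha⟩ : D)))
      rw [h1]; exact ⟨one_pow 2, Or.inl rfl⟩
    · refine AFive.comm_facts _ ?_ h3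
      have h := Cfsg.Agent.Lib.PGroups.FpfThree.comm_apply hD.aut (fun n => Subtype.ext (hD.triple hg n.2)) ⟨a, ha⟩
      have h' : a * (g * a * g⁻¹) = g * a * g⁻¹ * a := congrArg Subtype.val h
      have h'' := congrArg d.φ h'
      simpa [map_mul, map_inv, d.map_g] using h''
  have hone : (∀ a ∈ D, (d.φ a : Equiv.Perm (Fin 5)) 4 = 4) ∨
      (∀ a ∈ D, (d.φ a : Equiv.Perm (Fin 5)) 3 = 3) := by
    by_contra hcon
    push Not at hcon
    obtain ⟨⟨a, ha, ha4⟩, b, hb, hb3⟩ := hcon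
    have ha3 := (hW a ha).2.resolve_left ha4
    have hb4 := (hW b hb).2.resolve_right hb3
    rcases (hW (a * b) (mul_mem ha hb)).2 with h | h <;>
      rw [map_mul, Subgroup.coe_mul, Equiv.Perm.mul_apply] at h
    · rw [hb4] at h; exact ha4 h
    · exact hb3 ((d.φ a : Equiv.Perm (Fin 5)).injective (h.trans ha3.symm))
  obtain ⟨i, hi, hDi⟩ : ∃ (i : Fin 5) (hi : i = 3 ∨ i = 4), D ≤ (fourSub i hi).comap d.φ := by
    rcases hone with h | h
    · exact ⟨4, Or.inr rfl, fun a ha => ⟨(hW a ha).1, h a ha⟩⟩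
    · exact ⟨3, Or.inl rfl, fun a ha => ⟨(hW a ha).1, h a ha⟩⟩
  by_cases heq : D = (fourSub i hi).comap d.φ
  · exact Or.inr ⟨i, hi, heq⟩
  · refine Or.inl ?_
    have h1 := Subgroup.card_dvd_of_le hDi
    rw [card_comap d.φ d.surj, card_fourSub] at h1
    obtain ⟨k, hk⟩ := Subgroup.card_dvd_of_le hE
    rw [hk, Nat.mul_dvd_mul_iff_left Nat.card_pos] at h1
    have h2 := hD.card_mod_three hg
    have h3 := d.inv_ker.card_mod_three hg
    have h4 : k % 3 = 1 := by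
      rw [hk, Nat.mul_mod, h3, one_mul, Nat.mod_mod] at h2; exact h2
    have hk4 : k = 1 := by
      have hk5 : k ≤ 4 := Nat.le_of_dvd (by norm_num) h1
      have : k ≠ 4 := fun h => heq (Subgroup.eq_of_le_of_card_ge hDi (by
        rw [card_comap d.φ d.surj, card_fourSub, hk, h]))
      omega
    exact (Subgroup.eq_of_le_of_card_ge hE (by rw [hk, hk4, mul_one])).symm

theorem exists_inverter (d : FiveData g) : ∃ n : G, n * g * n⁻¹ = g⁻¹ := by
  obtain ⟨n, hn⟩ := d.surj AFive.t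
  have hI : Inv g⁻¹ d.φ.ker :=
    ⟨fun a ha => (MonoidHom.normal_ker d.φ).conj_mem a ha g⁻¹, d.cop⟩
  obtain ⟨m, hm, hmn⟩ := hI.exists_eq hg.inv (x := n * g * n⁻¹ * g) (by
    rw [MonoidHom.mem_ker]
    simp only [map_mul, map_inv, hn, d.map_g, AFive.t_conj, inv_mul_cancel])
  refine ⟨m⁻¹ * n, ?_⟩
  calc m⁻¹ * n * g * (m⁻¹ * n)⁻¹ = m⁻¹ * (n * g * n⁻¹ * g) * g⁻¹ * m := by group
    _ = m⁻¹ * (m * g⁻¹ * m⁻¹ * g⁻¹⁻¹) * g⁻¹ * m := by rw [hmn]
    _ = g⁻¹ := by group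

omit hg in
theorem inverter_moves {n : G} (hn : n * g * n⁻¹ = g⁻¹) (i : Fin 5) (hi : i = 3 ∨ i = 4)
    {a : G} (ha : a ∈ (fourSub i hi).comap d.φ) :
    ∃ (j : Fin 5) (hj : j = 3 ∨ j = 4), j ≠ i ∧ n * a * n⁻¹ ∈ (fourSub j hj).comap d.φ := by
  have h := congrArg d.φ hn
  simp only [map_mul, map_inv, d.map_g] at h
  obtain ⟨h3, h4⟩ := AFive.inverter_facts _ h
  have hsq : d.φ (n * a * n⁻¹) ^ 2 = 1 := by
    rw [map_mul, map_mul, map_inv, conj_pow, ha.1]; group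
  rcases hi with rfl | rfl
  · refine ⟨4, Or.inr rfl, by decide, hsq, ?_⟩
    rw [map_mul, map_mul, map_inv, Subgroup.coe_mul, Subgroup.coe_mul, Subgroup.coe_inv,
      Equiv.Perm.mul_apply, Equiv.Perm.mul_apply,
      show ((d.φ n : Equiv.Perm (Fin 5)))⁻¹ 4 = 3 from Equiv.Perm.inv_eq_iff_eq.mpr h3.symm, ha.2, h3]
  · refine ⟨3, Or.inl rfl, by decide, hsq, ?_⟩
    rw [map_mul, map_mul, map_inv, Subgroup.coe_mul, Subgroup.coe_mul, Subgroup.coe_inv,
      Equiv.Perm.mul_apply, Equiv.Perm.mul_apply,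
      show ((d.φ n : Equiv.Perm (Fin 5)))⁻¹ 3 = 4 from Equiv.Perm.inv_eq_iff_eq.mpr h4.symm, ha.2, h4]

end FiveData

end Cfsg.Agent.Lib.InvChar.SelfThree
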