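import Cfsg.Agent.Lib.InvChar.SelfThree.AFive
import Cfsg.Agent.S1003
import Cfsg.Agent.S1007

/-!
# Self-centralizing elements of order three: no extensions of the simple group of order 168
-/

set_option autoImplicit false
set_option linter.unusedSectionVars false
set_option linter.dupNamespace false
set_option linter.style.haveILetI false

namespace Cfsg.Agent.Lib.InvChar.SelfThree

open Subgroup
open scoped commutatorElement

universe u

/-- Two commuting involutions generate a four-group. -/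
theorem exists_four {Q : Type*} [Group Q] [Finite Q] {a b : Q} (ha : a * a = 1) (hb : b * b = 1)
    (ha1 : a ≠ 1) (hb1 : b ≠ 1) (hab : a ≠ b) (hc : a * b = b * a) :
    ∃ U : Subgroup Q, IsKleinFour U ∧ a ∈ U := by
  classical
  have hab1 : a * b ≠ 1 := fun h => hab (by
    calc a = a * (b * b) := by rw [hb, mul_one]
      _ = b := by rw [← mul_assoc, h, one_mul])
  have habab : a * b * (a * b) = 1 := by
    calc a * b * (a * b) = a * (b * a) * b := by group
      _ = a * a * (b * b) := by rw [← hc]; group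
      _ = 1 := by rw [ha, hb, mul_one]
  have x1 : b * (a * b) = a := by rw [← mul_assoc, ← hc, mul_assoc, hb, mul_one]
  have x2 : a * (a * b) = b := by rw [← mul_assoc, ha, one_mul]
  have x3 : a * b * a = b := by rw [hc, mul_assoc, ha, mul_one]
  have x4 : a * b * b = a := by rw [mul_assoc, hb, mul_one]
  let U : Subgroup Q :=
    { carrier := {1, a, b, a * b}
      one_mem' := Or.inl rfl
      mul_mem' := by
        intro x y hx hy
        simp only [Set.mem_insert_iff, Set.mem_singleton_iff] at hx hy ⊢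
        rcases hx with rfl | rfl | rfl | rfl <;> rcases hy with rfl | rfl | rfl | rfl <;>
          simp [ha, hb, habab, x1, x2, x3, x4, ← hc]
      inv_mem' := by
        intro x hx
        simp only [Set.mem_insert_iff, Set.mem_singleton_iff] at hx ⊢
        rcases hx with rfl | rfl | rfl | rfl
        · simp
        · exact Or.inr (Or.inl (inv_eq_of_mul_eq_one_right ha))
        · exact Or.inr (Or.inr (Or.inl (inv_eq_of_mul_eq_one_right hb)))
        · exact Or.inr (Or.inr (Or.inr (inv_eq_of_mul_eq_one_right habab))) }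
  have hcard : Nat.card U = 4 := by
    show Nat.card ({1, a, b, a * b} : Set Q) = 4
    rw [Nat.card_coe_set_eq, Set.ncard_insert_of_notMem (by simp [Ne.symm ha1, Ne.symm hb1, Ne.symm hab1]),
      Set.ncard_insert_of_notMem (by
        simp only [Set.mem_insert_iff, Set.mem_singleton_iff, not_or]
        exact ⟨hab, fun h => hb1 (mul_left_cancel (by rw [← h, mul_one]))⟩),
      Set.ncard_insert_of_notMem (by
        simp only [Set.mem_singleton_iff]
        exact fun h => ha1 (mul_right_cancel (by rw [← h, one_mul]))),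
      Set.ncard_singleton]
  refine ⟨U, ⟨hcard, ?_⟩, Or.inr (Or.inl rfl)⟩
  have : Nontrivial U := (Subgroup.nontrivial_iff_exists_ne_one U).mpr ⟨a, Or.inr (Or.inl rfl), ha1⟩
  refine Monoid.exponent_eq_prime_iff Nat.prime_two |>.mpr fun x hx => orderOf_eq_prime (Subtype.ext ?_) hx
  rw [SubmonoidClass.coe_pow, OneMemClass.coe_one, pow_two]
  rcases x.2 with h | h | h | h
  · rw [h, one_mul]
  · rw [h, ha]
  · rw [h, hb]
  · rw [Set.mem_singleton_iff.mp h, habab]

theorem exists_four_of_involution {Q : Type*} [Group Q] [Finite Q] [IsSimpleGroup Q]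
    (h : Nat.card Q = 168) {t : Q} (ht : orderOf t = 2) :
    ∃ U : Subgroup Q, IsKleinFour U ∧ t ∈ U := by
  have : Fact (Nat.Prime 2) := ⟨Nat.prime_two⟩
  have ht2 : t * t = 1 := by rw [← pow_two, ← ht, pow_orderOf_eq_one]
  have ht1 : t ≠ 1 := fun e => by rw [e, orderOf_one] at ht; omega
  obtain ⟨T, hT⟩ := (IsPGroup.of_card (n := 1) (by rw [Nat.card_zpowers, ht, pow_one]) :
    IsPGroup 2 (zpowers t)).exists_le_sylow
  have htT : t ∈ (T : Subgroup Q) := hT (mem_zpowers t)
  have : Nontrivial T := ⟨⟨⟨t, htT⟩, 1, fun e => ht1 (congrArg Subtype.val e)⟩⟩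
  have : Nontrivial (center T) := T.isPGroup'.center_nontrivial
  have hzp : IsPGroup 2 (center T) := T.isPGroup'.to_subgroup _
  obtain ⟨k, hk, hcard⟩ := hzp.nontrivial_iff_card.mp inferInstance
  obtain ⟨z, hz⟩ := exists_prime_orderOf_dvd_card' (G := center T) 2 (hcard ▸ dvd_pow_self 2 (by omega))
  set z' : Q := ((z : T) : Q) with hz'
  have hzo : orderOf z' = 2 := by rw [hz', Subgroup.orderOf_coe, Subgroup.orderOf_coe, hz]
  have hz2 : z' * z' = 1 := by rw [← pow_two, ← hzo, pow_orderOf_eq_one]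
  have hz1 : z' ≠ 1 := fun e => by rw [e, orderOf_one] at hzo; omega
  have hzc : ∀ x ∈ (T : Subgroup Q), x * z' = z' * x := fun x hx =>
    congrArg Subtype.val (mem_center_iff.mp z.2 ⟨x, hx⟩)
  by_cases htz : t = z'
  · obtain ⟨h2, -, -⟩ := Cfsg.Agent.S1007.result h T
    obtain ⟨U, hUT, hU⟩ : ∃ U : Subgroup Q, U ≤ (T : Subgroup Q) ∧ IsKleinFour U := by
      obtain ⟨⟨U, hU⟩⟩ : Nonempty {U : Subgroup Q // U ≤ (T : Subgroup Q) ∧ IsKleinFour ↥U} :=
        (Nat.card_pos_iff.mp (by rw [h2]; norm_num)).1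
      exact ⟨U, hU⟩
    by_cases htU : t ∈ U
    · exact ⟨U, hU, htU⟩
    · have : Nontrivial U := Finite.one_lt_card_iff_nontrivial.mp (by rw [hU.card_four]; norm_num)
      obtain ⟨u, hu⟩ := exists_ne (1 : U)
      refine exists_four ht2 (congrArg Subtype.val (IsKleinFour.mul_self u)) ht1
        (fun e => hu (Subtype.ext e)) (fun e => htU (e ▸ u.2)) ?_
      rw [htz]
      exact (hzc _ (hUT u.2)).symm
  · exact exists_four ht2 hz2 ht1 hz1 htz (hzc t htT)

theorem ker_eq_bot_of_168 {G : Type u} [Group G] [Finite G] {g : G} (hg : SelfThree g)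
    {Q : Type u} [Group Q] [Finite Q] [IsSimpleGroup Q] (hQ : Nat.card Q = 168) (φ : G →* Q)
    (hφ : Function.Surjective φ) (hc : ¬ 3 ∣ Nat.card φ.ker) : φ.ker = ⊥ := by
  have : Fact (Nat.Prime 3) := ⟨Nat.prime_three⟩
  have : Fact (Nat.Prime 7) := ⟨by norm_num⟩
  set E := φ.ker with hE
  have hg' := hg.map φ hφ hc
  -- lifting elements of order three
  have hlift : ∀ r : Q, orderOf r = 3 → ∀ U : Subgroup Q, r ∈ normalizer (U : Set Q) →
      ¬ 3 ∣ Nat.card U → ∃ s : G, SelfThree s ∧ Inv s (U.comap φ) := by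
    intro r hr U hrU hU
    obtain ⟨r', rfl⟩ := hφ r
    obtain ⟨j, hj⟩ := (hr ▸ orderOf_map_dvd φ r' : 3 ∣ orderOf r')
    have hj0 : j ≠ 0 := fun h => (orderOf_pos r').ne' (by rw [hj, h, mul_zero])
    have hs : orderOf (r' ^ j) = 3 := by
      rw [orderOf_pow_of_dvd hj0 ⟨3, by rw [hj, mul_comm]⟩, hj,
        Nat.mul_div_cancel _ (Nat.pos_of_ne_zero hj0)]
    refine ⟨r' ^ j, hg.of_orderOf hs, Inv.comap φ hφ hc (Inv.of_normalized ?_ hU)⟩
    rw [map_pow]
    exact pow_mem hrU j
  obtain ⟨hK, hK3⟩ | ⟨t, ht, htg⟩ := hg'.complement_or_inverter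
  · obtain ⟨hn, hk, hi⟩ := hK3
    rcases hn.eq_bot_or_eq_top with e | e <;> rw [e] at hi
    · rw [Subgroup.index_bot, hQ] at hi; omega
    · rw [Subgroup.index_top] at hi; omega
  have ht2 : t * t = 1 := by rw [← pow_two, ← ht, pow_orderOf_eq_one]
  -- `t * φ g` is an involution
  have htg2 : t * φ g * (t * φ g) = 1 := by
    calc t * φ g * (t * φ g) = t * φ g * t⁻¹ * φ g := by
          rw [inv_eq_of_mul_eq_one_right ht2]; group
      _ = 1 := by rw [htg, inv_mul_cancel]
  have htg1 : t * φ g ≠ 1 := fun e => by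
    rw [mul_eq_one_iff_eq_inv] at e
    rw [e, orderOf_inv, hg'.ord] at ht
    omega
  have key : ∀ x' : Q, orderOf x' = 2 → ∀ x : G, φ x = x' →
      ∃ s : G, SelfThree s ∧ ∃ T : Subgroup G, Inv s T ∧ E ≤ T ∧ x ∈ T := by
    intro x' hx' x hx
    obtain ⟨U, hU, hxU⟩ := exists_four_of_involution hQ hx'
    obtain ⟨T⟩ : Nonempty (Sylow 2 Q) := Sylow.nonempty
    obtain ⟨e⟩ := (Cfsg.Agent.S1007.result hQ T).2.2 U hU
    obtain ⟨r, hr⟩ := exists_prime_orderOf_dvd_card' (G := normalizer (U : Set Q)) 3 (by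
      rw [Nat.card_congr e.toEquiv, Nat.card_perm, Nat.card_fin]; decide)
    obtain ⟨s, hs, hT⟩ := hlift r (by rw [Subgroup.orderOf_coe, hr]) U r.2 (by rw [hU.card_four]; decide)
    exact ⟨s, hs, _, hT, MonoidHom.ker_le_comap φ U, by rw [mem_comap, hx]; exact hxU⟩
  obtain ⟨x, hx⟩ := hφ t
  have hxg : φ (x * g) = t * φ g := by rw [map_mul, hx]
  obtain ⟨hcomm, hsq, -⟩ := elementary hg φ hc (x := x) (y := x * g)
    (by rw [MonoidHom.mem_ker, map_mul, hx, ht2])
    (by rw [MonoidHom.mem_ker, map_mul, hxg, htg2])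
    (key t ht x hx) (key _ (orderOf_eq_prime (by rw [pow_two]; exact htg2) htg1) _ hxg)
    (by
      rw [map_mul, hx, hxg, ← mul_assoc, ht2, one_mul]
      exact hg'.ord)
  -- an element of order seven centralizes the kernel
  obtain ⟨S⟩ : Nonempty (Sylow 7 Q) := Sylow.nonempty
  have hS : Nat.card S = 7 := by
    rw [S.card_eq_multiplicity, hQ, show (168 : ℕ) = 7 * 24 by norm_num,
      Nat.factorization_mul (by norm_num) (by norm_num), Finsupp.add_apply,
      Nat.Prime.factorization_self (by norm_num),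
      Nat.factorization_eq_zero_of_not_dvd (by decide), pow_one]
  have hN : Nat.card (normalizer ((S : Subgroup Q) : Set Q)) = 21 := by
    have h8 := (Cfsg.Agent.S1003.result hQ).2.2
    rw [S.card_eq_index_normalizer] at h8
    have := Subgroup.card_mul_index (normalizer ((S : Subgroup Q) : Set Q))
    have h9 : (normalizer ((S : Subgroup Q) : Set Q)).index = 8 := h8
    rw [h9, hQ] at this
    omega
  obtain ⟨r, hr⟩ := exists_prime_orderOf_dvd_card' (G := normalizer ((S : Subgroup Q) : Set Q)) 3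
    (by rw [hN]; decide)
  obtain ⟨s, hs, hY⟩ := hlift r (by rw [Subgroup.orderOf_coe, hr]) (S : Subgroup Q) r.2
    (by rw [show Nat.card (S : Subgroup Q) = 7 from hS]; decide)
  obtain ⟨w', hw'⟩ := exists_prime_orderOf_dvd_card' (G := (S : Subgroup Q)) 7 (dvd_of_eq hS.symm)
  obtain ⟨w, hw⟩ := hφ w'
  have hwY : w ∈ (S : Subgroup Q).comap φ := by rw [mem_comap, hw]; exact w'.2
  have hEY : E ≤ (S : Subgroup Q).comap φ := MonoidHom.ker_le_comap φ _
  have hw7 : w ^ 7 ∈ E := by
    rw [MonoidHom.mem_ker, map_pow, hw, ← SubmonoidClass.coe_pow,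
      orderOf_dvd_iff_pow_eq_one.mp (dvd_of_eq hw')]
    rfl
  have hwc : ∀ n ∈ E, ⁅w, n⁆ = 1 := by
    intro n hn
    set c := ⁅w, n⁆ with hc'
    have hcY : c ∈ (S : Subgroup Q).comap φ :=
      mul_mem (mul_mem (mul_mem hwY (hEY hn)) (inv_mem hwY)) (inv_mem (hEY hn))
    have hcen : ∀ m ∈ (S : Subgroup Q).comap φ, c * m = m * c := fun m hm =>
      commutatorElement_eq_one_iff_mul_comm.mp (hY.comm3 hs hwY (hEY hn) hm)
    have h2 : c * c = 1 := by
      have : ⁅w, n * n⁆ = c * c := by
        rw [comm_prod_right, ← hc', ← hcen n (hEY hn), mul_inv_cancel_right]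
      rw [← this, hsq n hn, commutatorElement_one_right]
    have hpow : ∀ k : ℕ, ⁅w ^ k, n⁆ = c ^ k := by
      intro k
      induction k with
      | zero => simp
      | succ k ih =>
        have : w ^ k * c * (w ^ k)⁻¹ = c := by
          rw [← hcen _ (pow_mem hwY k), mul_inv_cancel_right]
        rw [pow_succ, comm_prod_left, ← hc', this, ih, ← pow_succ']
    have h7 : c ^ 7 = 1 := by
      rw [← hpow 7, commutatorElement_eq_one_iff_mul_comm]
      exact hcomm _ hw7 n hn
    calc c = c ^ 7 * (c * c)⁻¹ * (c * c)⁻¹ * (c * c)⁻¹ := by group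
      _ = 1 := by rw [h7, h2]; simp
  have hEn : E.Normal := MonoidHom.normal_ker φ
  set C := centralizer (E : Set G) with hC
  have hCn : C.Normal := Subgroup.normal_centralizer
  have hwC : w ∈ C := by
    rw [hC, mem_centralizer_iff]
    exact fun n hn => (commutatorElement_eq_one_iff_mul_comm.mp (hwc n hn)).symm
  have hEC : E ≤ C := fun n hn => mem_centralizer_iff.mpr fun m hm => hcomm m hm n hn
  have htop : C = ⊤ := by
    have h1 := Subgroup.Normal.map hCn φ hφ
    rcases h1.eq_bot_or_eq_top with e | e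
    · exfalso
      have h2 : φ w = 1 := mem_bot.mp (e ▸ mem_map_of_mem φ hwC)
      rw [hw] at h2
      rw [show w' = 1 from Subtype.ext h2, orderOf_one] at hw'
      omega
    · have h2 := congrArg (Subgroup.comap φ) e
      rwa [comap_map_eq, comap_top, ← hE, sup_of_le_left hEC] at h2
  refine (Subgroup.eq_bot_iff_forall _).mpr fun n hn => ?_
  have h := mem_centralizer_iff.mp ((htop ▸ mem_top g : g ∈ C)) n hn
  exact (⟨fun a ha => hEn.conj_mem a ha g, hc⟩ : Inv g E).eq_one_of_comm hg hn h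

end Cfsg.Agent.Lib.InvChar.SelfThree
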