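import Cfsg.Agent.Lib.InvChar.SelfThree.Arith
import Cfsg.Agent.Lib.InvChar.SelfThree.Simple168
import Cfsg.Agent.S0494

/-!
# Self-centralizing elements of order three: the classification
-/

set_option autoImplicit false
set_option linter.unusedSectionVars false
set_option linter.dupNamespace false
set_option linter.style.haveILetI false

namespace Cfsg.Agent.Lib.InvChar.SelfThree

open Subgroup

universe u

variable {G : Type u} [Group G] [Finite G]

theorem types_of_normal_zpowers {g : G} (hg : SelfThree g)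
    (hn : (zpowers g).Normal) : Types G := by
  have : Fact (Nat.Prime 3) := ⟨Nat.prime_three⟩
  refine Or.inl ⟨⊥, inferInstance, by simp, ?_⟩
  rw [Subgroup.index_bot]
  have hmem : ∀ a : G, a * g * a⁻¹ = g ∨ a * g * a⁻¹ = g⁻¹ := by
    intro a
    rcases hg.mem_cases (hn.conj_mem g (mem_zpowers g) a) with e | e | e
    · exact absurd (conj_eq_one_iff.mp e) hg.ne_one
    · exact Or.inl e
    · exact Or.inr (by rw [e, hg.inv_eq])
  classical
  have hker : ∀ a : G, a * g * a⁻¹ = g → a ∈ zpowers g := fun a h =>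
    hg.cen a (mul_inv_eq_iff_eq_mul.mp h)
  by_cases ht : ∃ t : G, t * g * t⁻¹ = g⁻¹
  · obtain ⟨t, ht⟩ := ht
    have hle : Nat.card G ≤ Nat.card (zpowers g × Fin 2) := by
      refine Nat.card_le_card_of_surjective (fun p => (bif p.2 = 1 then t else 1) * p.1.1) fun a => ?_
      rcases hmem a with h | h
      · exact ⟨(⟨a, hker a h⟩, 0), by simp⟩
      · refine ⟨(⟨t⁻¹ * a, hker _ ?_⟩, 1), by simp⟩
        calc t⁻¹ * a * g * (t⁻¹ * a)⁻¹ = t⁻¹ * (a * g * a⁻¹) * t := by group
          _ = t⁻¹ * (t * g * t⁻¹) * t := by rw [h, ht]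
          _ = g := by group
    rw [Nat.card_prod, hg.card_zpowers, Nat.card_fin] at hle
    obtain ⟨k, hk⟩ := hg.three_dvd_card
    have : 0 < Nat.card G := Nat.card_pos
    omega
  · left
    have h : zpowers g = ⊤ := by
      rw [eq_top_iff]
      intro a _
      exact hker a ((hmem a).resolve_right fun h => ht ⟨a, h⟩)
    rw [← Subgroup.card_top (G := G), ← h, hg.card_zpowers]

theorem types_lift {g : G} (hg : SelfThree g) {N : Subgroup G} [N.Normal]
    (hN : ¬ 3 ∣ Nat.card N) (hne : N ≠ ⊥) (h : Types (G ⧸ N)) : Types G := by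
  set π := QuotientGroup.mk' N with hπ
  have hπs : Function.Surjective π := QuotientGroup.mk'_surjective N
  have hker : π.ker = N := QuotientGroup.ker_mk' N
  rcases h with ⟨K, hKn, hKc, hKi⟩ | ⟨φ, hφ, hφc⟩ | ⟨hs, hc⟩
  · refine Or.inl ⟨K.comap π, hKn.comap π, ?_, ?_⟩
    · rw [card_comap π hπs, hker]
      exact fun h => ((Nat.Prime.dvd_mul Nat.prime_three).mp h).elim hN hKc
    · rwa [Subgroup.index_comap_of_surjective K hπs]
  · refine Or.inr (Or.inl ⟨φ.comp π, hφ.comp hπs, ?_⟩)
    rw [← MonoidHom.comap_ker, card_comap π hπs, hker]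
    exact fun h => ((Nat.Prime.dvd_mul Nat.prime_three).mp h).elim hN hφc
  · exfalso
    have := hs
    exact hne (hker ▸ ker_eq_bot_of_168 hg hc π hπs (by rw [hker]; exact hN))

/-- A normal subgroup whose conjugates are invariant and small is trivial. -/
theorem eq_bot_of_top_invariant {g : G} (hmin : ∀ K : Subgroup G, K.Normal → ¬ 3 ∣ Nat.card K → K = ⊥)
    {N : Subgroup G} [N.Normal] (hgN : g ∈ N) {K : Subgroup N} [hK : K.Normal]
    (hKc : ¬ 3 ∣ Nat.card K) (hmax : ∀ D : Subgroup N, D.Normal → ¬ 3 ∣ Nat.card D → D ≤ K) :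
    K = ⊥ := by
  set K' := K.map N.subtype with hK'
  have hn : K'.Normal := by
    refine ⟨fun x hx a => ?_⟩
    obtain ⟨y, hy, rfl⟩ := hx
    let e : N ≃* N :=
      { toFun := fun z => ⟨a * z.1 * a⁻¹, ‹N.Normal›.conj_mem _ z.2 a⟩
        invFun := fun z => ⟨a⁻¹ * z.1 * a, by simpa using ‹N.Normal›.conj_mem _ z.2 a⁻¹⟩
        left_inv := fun z => Subtype.ext (show a⁻¹ * (a * z.1 * a⁻¹) * a = z.1 by group)
        right_inv := fun z => Subtype.ext (show a * (a⁻¹ * z.1 * a) * a⁻¹ = z.1 by group)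
        map_mul' := fun z w => Subtype.ext
          (show a * (z.1 * w.1) * a⁻¹ = a * z.1 * a⁻¹ * (a * w.1 * a⁻¹) by group) }
    have h1 := hmax (K.map e.toMonoidHom) (hK.map _ e.surjective)
      (by rw [Subgroup.card_map_of_injective (show Function.Injective e.toMonoidHom from e.injective)]; exact hKc)
    exact ⟨e y, h1 ⟨y, hy, rfl⟩, rfl⟩
  have h := hmin K' hn (by rw [hK', Subgroup.card_map_of_injective N.subtype_injective]; exact hKc)
  rwa [hK', Subgroup.map_eq_bot_iff_of_injective _ N.subtype_injective] at h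

/-- Finite groups with a self-centralizing element of order three have one of the three types. -/
theorem types_of_selfThree : ∀ (n : ℕ) (G : Type u) [Group G] [Finite G],
    Nat.card G ≤ n → ∀ g : G, SelfThree g → Types G := by
  intro n
  induction n with
  | zero =>
    intro G _ _ h
    have : 0 < Nat.card G := Nat.card_pos
    omega
  | succ n ih =>
  intro G _ _ hle g hg
  classical
  have : Fact (Nat.Prime 3) := ⟨Nat.prime_three⟩
  by_cases hN : ∃ N : Subgroup G, N.Normal ∧ ¬ 3 ∣ Nat.card N ∧ N ≠ ⊥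
  · obtain ⟨N, hNn, hNc, hne⟩ := hN
    refine types_lift hg hNc hne (ih (G ⧸ N) ?_ _
      (hg.map (QuotientGroup.mk' N) (QuotientGroup.mk'_surjective N) (by rw [QuotientGroup.ker_mk']; exact hNc)))
    have h1 := Subgroup.card_eq_card_quotient_mul_card_subgroup N
    have h2 : 1 < Nat.card N := (Subgroup.one_lt_card_iff_ne_bot N).mpr hne
    have h3 : 0 < Nat.card (G ⧸ N) := Nat.card_pos
    have : Nat.card (G ⧸ N) * 2 ≤ Nat.card G := h1 ▸ Nat.mul_le_mul_left _ h2
    omega
  have hmin : ∀ K : Subgroup G, K.Normal → ¬ 3 ∣ Nat.card K → K = ⊥ := fun K hK hc => by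
    by_contra h; exact hN ⟨K, hK, hc, h⟩
  have hsub : ∀ M : Subgroup G, M ≠ ⊤ → ∀ h : g ∈ M, Types M := fun M hM h =>
    ih M (by
      have : Nat.card M < Nat.card G := by
        refine lt_of_le_of_ne (Subgroup.card_le_card_group M) fun e => hM (Subgroup.eq_top_of_card_eq M e)
      omega) _ (hg.subgroup h)
  by_cases hns : ∃ N : Subgroup G, N.Normal ∧ N ≠ ⊥ ∧ N ≠ ⊤
  · obtain ⟨N, hNn, hNb, hNt⟩ := hns
    have h3 : 3 ∣ Nat.card N := by
      by_contra h
      exact hNb (hmin N hNn h)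
    obtain ⟨y, hy⟩ := exists_prime_orderOf_dvd_card' (G := N) 3 h3
    have hgN : g ∈ N := by
      obtain ⟨c, h | h⟩ := hg.exists_conj (y := (y : G)) (by rw [Subgroup.orderOf_coe, hy])
      · have := hNn.conj_mem _ y.2 c⁻¹
        rw [← h] at this
        simpa [mul_assoc] using this
      · have := hNn.conj_mem _ (inv_mem y.2) c⁻¹
        rw [← h] at this
        simpa [mul_assoc] using this
    have hgN' := hg.subgroup hgN
    -- in types (B) and (C) the subgroup contains every inverter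
    have hsimple : IsSimpleGroup N → Nat.card N ≠ 3 → False := by
      intro hs hn3
      obtain ⟨K, hKn, hKc, hKi⟩ | ⟨t, -, ht⟩ := hgN'.complement_or_inverter
      · rcases hKn.eq_bot_or_eq_top with e | e <;> rw [e] at hKi
        · rw [Subgroup.index_bot] at hKi; exact hn3 hKi
        · rw [Subgroup.index_top] at hKi; omega
      have ht' : (t : G) * g * (t : G)⁻¹ = g⁻¹ := congrArg Subtype.val ht
      refine hNt (eq_top_iff.mpr fun a _ => ?_)
      obtain ⟨b, hb⟩ := hgN'.exists_conj (y := ⟨a * g * a⁻¹, hNn.conj_mem g hgN a⟩)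
        (by rw [Subgroup.orderOf_mk]; exact (hg.conj_iff a).ord)
      have key : ∀ c : G, c * g * c⁻¹ = g → c ∈ N := fun c hc =>
        zpowers_le.mpr hgN (hg.cen c (mul_inv_eq_iff_eq_mul.mp hc))
      rcases hb with h | h
      · have h' : (b : G) * g * (b : G)⁻¹ = a * g * a⁻¹ := congrArg Subtype.val h
        have := mul_mem b.2 (key ((b : G)⁻¹ * a) (by
          calc (b : G)⁻¹ * a * g * ((b : G)⁻¹ * a)⁻¹ = (b : G)⁻¹ * (a * g * a⁻¹) * b := by group
            _ = g := by rw [← h']; group))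
        rwa [mul_inv_cancel_left] at this
      · have h' : (b : G) * g * (b : G)⁻¹ = (a * g * a⁻¹)⁻¹ := congrArg Subtype.val h
        have h'' : (b : G)⁻¹ * a * g * ((b : G)⁻¹ * a)⁻¹ = g⁻¹ := by
          calc (b : G)⁻¹ * a * g * ((b : G)⁻¹ * a)⁻¹ = ((b : G)⁻¹ * (a * g * a⁻¹)⁻¹ * b)⁻¹ := by group
            _ = g⁻¹ := by rw [← h']; group
        have := mul_mem (mul_mem b.2 (inv_mem t.2)) (key ((t : G) * ((b : G)⁻¹ * a)) (by
          calc (t : G) * ((b : G)⁻¹ * a) * g * ((t : G) * ((b : G)⁻¹ * a))⁻¹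
              = (t : G) * ((b : G)⁻¹ * a * g * ((b : G)⁻¹ * a)⁻¹) * (t : G)⁻¹ := by group
            _ = ((t : G) * g * (t : G)⁻¹)⁻¹ := by rw [h'']; group
            _ = g := by rw [ht', inv_inv]))
        simpa [mul_assoc] using this
    have hI : ∀ D : Subgroup N, D.Normal → ¬ 3 ∣ Nat.card D → Inv (⟨g, hgN⟩ : N) D :=
      fun D hD hc => ⟨fun x hx => hD.conj_mem x hx _, hc⟩
    rcases hsub N hNt hgN with ⟨K, hKn, hKc, hKi⟩ | ⟨φ, hφ, hφc⟩ | ⟨hs, hc⟩
    · have hKb : K = ⊥ := eq_bot_of_top_invariant hmin hgN hKc fun D hD hDc => by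
        refine le_kernel hgN' (M := ⊤) le_top (hI K hKn hKc) (fun a _ => ?_) ?_ (hI D hD hDc) le_top
        · exact mem_normalizer_of_forall fun x hx => hKn.conj_mem x hx a
        · rw [Subgroup.card_top, ← Subgroup.card_mul_index K, mul_comm 3, mul_comm 6]
          rcases hKi with e | e <;> rw [e] <;> simp
      rw [hKb, Subgroup.index_bot] at hKi
      refine types_of_normal_zpowers hg ⟨fun x hx a => ?_⟩
      have hxN : a * x * a⁻¹ ∈ N := hNn.conj_mem x (zpowers_le.mpr hgN hx) a
      set w : N := ⟨a * x * a⁻¹, hxN⟩ with hw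
      have hw3 : w ^ 3 = 1 := by
        refine Subtype.ext ?_
        obtain ⟨i, rfl⟩ := mem_zpowers_iff.mp hx
        show (a * g ^ i * a⁻¹) ^ 3 = 1
        rw [conj_pow, ← zpow_natCast, ← zpow_mul, mul_comm i, zpow_mul, zpow_natCast, hg.cube, one_zpow]
        group
      have hwX : w ∈ zpowers (⟨g, hgN⟩ : N) := by
        have hidx := Subgroup.card_mul_index (zpowers (⟨g, hgN⟩ : N))
        rw [hgN'.card_zpowers] at hidx
        rcases hKi with e | e
        · have : zpowers (⟨g, hgN⟩ : N) = ⊤ :=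
            Subgroup.eq_top_of_card_eq _ (by rw [hgN'.card_zpowers, e])
          rw [this]; exact mem_top _
        · have h2 : (zpowers (⟨g, hgN⟩ : N)).index = 2 := by omega
          have h4 := Subgroup.sq_mem_of_index_two h2 w
          have : w = (w ^ 2)⁻¹ * w ^ 3 := by group
          rw [this, hw3, mul_one]
          exact inv_mem h4
      obtain ⟨i, hi⟩ := mem_zpowers_iff.mp hwX
      exact mem_zpowers_iff.mpr ⟨i, by simpa [hw] using congrArg Subtype.val hi⟩
    · have hKb : φ.ker = ⊥ := eq_bot_of_top_invariant hmin hgN hφc fun D hD hDc x hx => by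
        have h1 := hD.map φ hφ
        rcases h1.eq_bot_or_eq_top with e | e
        · exact MonoidHom.mem_ker.mpr (mem_bot.mp (e ▸ mem_map_of_mem φ hx))
        · exfalso
          have h2 := Subgroup.card_map_dvd D φ
          rw [e, Subgroup.card_top] at h2
          refine hDc (dvd_trans ?_ h2)
          rw [nat_card_alternatingGroup, Nat.card_fin]
          decide
      have e := MulEquiv.ofBijective φ ⟨(MonoidHom.ker_eq_bot_iff φ).mp hKb, hφ⟩
      exact (hsimple e.isSimpleGroup (by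
        rw [Nat.card_congr e.toEquiv, nat_card_alternatingGroup, Nat.card_fin]; decide)).elim
    · exact (hsimple hs (by omega)).elim
  -- `G` is simple
  push Not at hns
  have : Nontrivial G := ⟨⟨g, 1, hg.ne_one⟩⟩
  have hs : IsSimpleGroup G := ⟨fun N hN => or_iff_not_imp_left.mpr (hns N hN)⟩
  obtain ⟨K, hKn, hKc, hKi⟩ | ⟨τ, hτo, hτ⟩ := hg.complement_or_inverter
  · exact Or.inl ⟨K, hKn, hKc, Or.inl hKi⟩
  have hx : Ctx g τ := by
    refine ⟨hs, hg, hτ, by rw [← pow_two, ← hτo, pow_orderOf_eq_one], fun M hM hgM => ?_⟩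
    exact types_internal hg hτ hgM (hsub M hM hgM)
  rcases hx.card_eq with h | h
  · obtain ⟨e⟩ := Cfsg.Agent.S0494.result h
    refine Or.inr (Or.inl ⟨e.toMonoidHom, e.surjective, ?_⟩)
    rw [(MonoidHom.ker_eq_bot_iff _).mpr (show Function.Injective e.toMonoidHom from e.injective)]
    simp
  · exact Or.inr (Or.inr ⟨hs, h⟩)

end Cfsg.Agent.Lib.InvChar.SelfThree
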