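import Cfsg.Agent.Lib.InvChar.SelfThree.Bounds

/-!
# Self-centralizing elements of order three: the order of a simple counterexample
-/

set_option autoImplicit false
set_option linter.unusedSectionVars false
set_option linter.dupNamespace false
set_option linter.style.haveILetI false

namespace Cfsg.Agent.Lib.InvChar.SelfThree

open Subgroup
open scoped commutatorElement

universe u

theorem prod_dvd_of_pairwise {ι : Type*} {s : Finset ι} {f : ι → ℕ} {n : ℕ}
    (hp : ∀ i ∈ s, ∀ j ∈ s, i ≠ j → (f i).Coprime (f j)) (hd : ∀ i ∈ s, f i ∣ n) :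
    ∏ i ∈ s, f i ∣ n := by
  classical
  induction s using Finset.induction_on with
  | empty => simp
  | insert a s ha ih =>
    rw [Finset.prod_insert ha]
    refine Nat.Coprime.mul_dvd_of_dvd_of_dvd (Nat.Coprime.prod_right fun j hj =>
      hp a (Finset.mem_insert_self a s) j (Finset.mem_insert_of_mem hj) (fun h => ha (h ▸ hj)))
      (hd a (Finset.mem_insert_self a s)) (ih (fun i hi j hj => hp i (Finset.mem_insert_of_mem hi) j
        (Finset.mem_insert_of_mem hj)) fun i hi => hd i (Finset.mem_insert_of_mem hi))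

theorem sum_lt_prod {ι : Type*} (s : Finset ι) (f : ι → ℕ) (h : ∀ i ∈ s, 1 ≤ f i) :
    (∑ i ∈ s, (f i - 1)) + 1 ≤ ∏ i ∈ s, f i := by
  classical
  induction s using Finset.induction_on with
  | empty => simp
  | insert a s ha ih =>
    rw [Finset.prod_insert ha, Finset.sum_insert ha]
    have h1 := ih fun i hi => h i (Finset.mem_insert_of_mem hi)
    obtain ⟨d, hd⟩ : ∃ d, f a = d + 1 := ⟨f a - 1, by have := h a (Finset.mem_insert_self a s); omega⟩
    rw [hd, Nat.add_sub_cancel]
    have : 1 ≤ ∏ i ∈ s, f i := by omega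
    nlinarith [Nat.mul_le_mul_left d this]

theorem six_sum_le_prod {ι : Type*} (s : Finset ι) (f : ι → ℕ) (h : ∀ i ∈ s, 4 ≤ f i)
    (hc : 3 ≤ s.card) : 6 * (∑ i ∈ s, (f i - 1)) + 3 ≤ ∏ i ∈ s, f i := by
  classical
  induction s using Finset.induction_on with
  | empty => simp at hc
  | insert a s ha ih =>
    obtain ⟨d, hd⟩ : ∃ d, f a = d + 4 := ⟨f a - 4, by have := h a (Finset.mem_insert_self a s); omega⟩
    have hs : ∀ i ∈ s, 4 ≤ f i := fun i hi => h i (Finset.mem_insert_of_mem hi)
    rw [Finset.card_insert_of_notMem ha] at hc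
    rw [Finset.prod_insert ha, Finset.sum_insert ha, hd, show d + 4 - 1 = d + 3 by omega]
    by_cases h3 : 3 ≤ s.card
    · have := ih hs h3
      have : 6 ≤ ∏ i ∈ s, f i := by
        obtain ⟨b, hb⟩ := Finset.card_pos.mp (show 0 < s.card by omega)
        have h1 := Finset.single_le_sum (f := fun i => f i - 1) (fun i _ => Nat.zero_le _) hb
        have := hs b hb
        omega
      nlinarith
    · obtain ⟨b, c, hbc, rfl⟩ := Finset.card_eq_two.mp (show s.card = 2 by omega)
      rw [Finset.prod_pair hbc, Finset.sum_pair hbc]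
      obtain ⟨x, hx⟩ : ∃ x, f b = x + 4 := ⟨f b - 4, by have := hs b (by simp); omega⟩
      obtain ⟨y, hy⟩ : ∃ y, f c = y + 4 := ⟨f c - 4, by have := hs c (by simp); omega⟩
      rw [hx, hy, show x + 4 - 1 = x + 3 by omega, show y + 4 - 1 = y + 3 by omega]
      nlinarith [Nat.zero_le (x * y), Nat.zero_le (d * x), Nat.zero_le (d * y), Nat.zero_le (d * x * y)]

theorem seven_sum_le_prod {ι : Type*} (s : Finset ι) (f : ι → ℕ) (h : ∀ i ∈ s, 7 ≤ f i)
    (hc : 2 ≤ s.card) : 7 * (∑ i ∈ s, (f i - 1)) ≤ 2 * ∏ i ∈ s, f i := by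
  classical
  induction s using Finset.induction_on with
  | empty => simp at hc
  | insert a s ha ih =>
    obtain ⟨d, hd⟩ : ∃ d, f a = d + 7 := ⟨f a - 7, by have := h a (Finset.mem_insert_self a s); omega⟩
    have hs : ∀ i ∈ s, 7 ≤ f i := fun i hi => h i (Finset.mem_insert_of_mem hi)
    rw [Finset.card_insert_of_notMem ha] at hc
    rw [Finset.prod_insert ha, Finset.sum_insert ha, hd, show d + 7 - 1 = d + 6 by omega]
    obtain ⟨b, hb⟩ := Finset.card_pos.mp (show 0 < s.card by omega)
    by_cases h2 : 2 ≤ s.card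
    · have := ih hs h2
      have h1 := Finset.single_le_sum (f := fun i => f i - 1) (fun i _ => Nat.zero_le _) hb
      have := hs b hb
      have : 6 ≤ ∏ i ∈ s, f i := by omega
      nlinarith [Nat.mul_le_mul_left d this]
    · obtain ⟨c, rfl⟩ := Finset.card_eq_one.mp (show s.card = 1 by omega)
      rw [Finset.prod_singleton, Finset.sum_singleton]
      obtain ⟨x, hx⟩ : ∃ x, f c = x + 7 := ⟨f c - 7, by have := hs c (by simp); omega⟩
      rw [hx, show x + 7 - 1 = x + 6 by omega]
      nlinarith [Nat.zero_le (d * x)]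

variable {G : Type u} [Group G] [Finite G]

namespace Ctx

variable {g τ : G} (hx : Ctx g τ)
include hx

theorem twelve_le : 12 ≤ Nat.card G := by
  have hg := hx.self
  have : Fact (Nat.Prime 3) := ⟨Nat.prime_three⟩
  set N := normalizer ((zpowers g : Subgroup G) : Set G) with hN
  have hτN : τ ∈ N := mem_normalizer_of_forall fun x hx' => by
    obtain ⟨i, rfl⟩ := mem_zpowers_iff.mp hx'
    rw [← conj_zpow, hx.tau]
    exact zpow_mem (inv_mem (mem_zpowers g)) i
  have hgN : g ∈ N := le_normalizer (mem_zpowers g)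
  have hτo : orderOf τ = 2 := by
    have : Fact (Nat.Prime 2) := ⟨Nat.prime_two⟩
    exact orderOf_eq_prime (by rw [pow_two, hx.tau_sq]) hx.tau_ne_one
  have h2 : 2 ∣ Nat.card N := hτo ▸ Subgroup.orderOf_mk τ hτN ▸ orderOf_dvd_natCard (⟨τ, hτN⟩ : N)
  have h3 : 3 ∣ Nat.card N := hg.ord ▸ Subgroup.orderOf_mk g hgN ▸ orderOf_dvd_natCard (⟨g, hgN⟩ : N)
  have htop : N ≠ ⊤ := by
    intro h
    have := hx.simple
    rcases (Subgroup.normalizer_eq_top_iff.mp h).eq_bot_or_eq_top with e | e
    · exact hg.ne_one (mem_bot.mp (e ▸ mem_zpowers g))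
    · have h4 := Subgroup.card_top (G := G)
      rw [← e, hg.card_zpowers] at h4
      have := Subgroup.card_subgroup_dvd_card N
      rw [← h4] at this
      have := h2.trans this
      norm_num at this
  have h1 := Subgroup.card_mul_index N
  have h5 := Subgroup.one_lt_index_of_ne_top htop
  have h6 := Nat.le_of_dvd Nat.card_pos h2
  nlinarith [show 6 ≤ Nat.card N from Nat.le_of_dvd Nat.card_pos (Nat.Coprime.mul_dvd_of_dvd_of_dvd (by norm_num) h2 h3)]

theorem no_even_twin {W H : Subgroup G} (hW : MaxI g W) (hWf : cj τ W = W)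
    (hW4 : Nat.card W = 4) (hH : MaxI g H) (hHt : cj τ H ≠ H) : ¬ 2 ∣ Nat.card H := by
  intro h2
  have hg := hx.self
  have : Fact (Nat.Prime 2) := ⟨Nat.prime_two⟩
  have : Fact (Nat.Prime 3) := ⟨Nat.prime_three⟩
  obtain ⟨S, hSH, hSi, -⟩ := hx.sylow_of_maxI hH h2 (Or.inr hHt)
  have hCi : Inv g (centralizer (W : Set G)) := by
    refine ⟨fun x hx' => ?_, fun hd => ?_⟩
    · have hn : g ∈ normalizer (W : Set G) := hW.inv.mem_normalizer
      rw [mem_centralizer_iff]
      intro w hw
      have h1 := (mem_normalizer_iff.mp (inv_mem hn) w).mp hw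
      rw [inv_inv] at h1
      have h2 := mem_centralizer_iff.mp hx' _ h1
      calc w * (g * x * g⁻¹) = g * ((g⁻¹ * w * g) * x) * g⁻¹ := by group
        _ = g * (x * (g⁻¹ * w * g)) * g⁻¹ := by rw [h2]
        _ = g * x * g⁻¹ * w := by group
    · obtain ⟨x, hxo⟩ := exists_prime_orderOf_dvd_card' (G := centralizer (W : Set G)) 3 hd
      have hsx := hg.of_orderOf (y := (x : G)) (by rw [Subgroup.orderOf_coe, hxo])
      refine hW.ne_bot ((Subgroup.eq_bot_iff_forall _).mpr fun w hw => ?_)
      have h1 := hsx.cen w (mem_centralizer_iff.mp x.2 w hw)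
      rcases hsx.mem_cases h1 with e | e | e
      · exact e
      all_goals
        exfalso
        have h3 : orderOf w ∣ 4 := hW4 ▸ Subgroup.orderOf_mk w hw ▸ orderOf_dvd_natCard (⟨w, hw⟩ : W)
        have h4 : orderOf w = 3 := by
          rw [e]
          first
            | exact hsx.ord
            | rw [← hsx.inv_eq, orderOf_inv]; exact hsx.ord
        rw [h4] at h3
        norm_num at h3
  have hCW : centralizer (W : Set G) ≤ W :=
    (hx.normalizer_IA hW).2 _ hCi (Subgroup.centralizer_le_normalizer _)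
  obtain ⟨S', hS'⟩ := (IsPGroup.of_card (n := 2) (by rw [hW4]; norm_num) :
    IsPGroup 2 W).exists_le_sylow
  obtain ⟨a, ha⟩ := MulAction.exists_smul_eq G S' S
  have ha' : ∀ x, x ∈ (S' : Subgroup G) → a * x * a⁻¹ ∈ H := fun x hx' =>
    hSH (ha ▸ ⟨x, hx', rfl⟩ : a * x * a⁻¹ ∈ (S : Subgroup G))
  have hS'N : (S' : Subgroup G) ≤ normalizer (W : Set G) := by
    intro p hp
    refine mem_normalizer_of_forall fun w hw => ?_
    have hz : ⁅p, w⁆ ∈ W := by
      refine hCW (mem_centralizer_iff.mpr fun v hv => ?_)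
      have h1 := commutatorElement_eq_one_iff_mul_comm.mp
        (hH.inv.comm3 hg (ha' p hp) (ha' w (hS' hw)) (ha' v (hS' hv)))
      calc v * ⁅p, w⁆ = a⁻¹ * ((a * v * a⁻¹) * ⁅a * p * a⁻¹, a * w * a⁻¹⁆) * a := by group
        _ = a⁻¹ * (⁅a * p * a⁻¹, a * w * a⁻¹⁆ * (a * v * a⁻¹)) * a := by rw [h1]
        _ = ⁅p, w⁆ * v := by group
    rw [show p * w * p⁻¹ = ⁅p, w⁆ * w by group]
    exact mul_mem hz hw
  have h24 : Nat.card (normalizer (W : Set G)) = 24 := by
    rw [hx.card_normalizer_fixed hW hWf, hW4]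
  have hcard : Nat.card S' = Nat.card S :=
    S'.card_eq_multiplicity.trans S.card_eq_multiplicity.symm
  have h8 : 8 ∣ Nat.card S' := by
    rw [S'.card_eq_multiplicity]
    have h : 8 ∣ Nat.card G :=
      (show 8 ∣ 24 by norm_num).trans (h24 ▸ Subgroup.card_subgroup_dvd_card _)
    rw [show (8 : ℕ) = 2 ^ 3 by norm_num] at h ⊢
    exact pow_dvd_pow 2 ((Nat.prime_two.pow_dvd_iff_le_factorization Nat.card_pos.ne').mp h)
  have h24' : Nat.card S' ∣ 24 := h24 ▸ Subgroup.card_dvd_of_le hS'N
  obtain ⟨k, hk⟩ := S'.isPGroup'.exists_card_eq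
  have hk' : Nat.card S' = 8 := by
    have h1 := Nat.le_of_dvd (by norm_num) h24'
    obtain ⟨j, hj⟩ := h8
    rw [hj] at h24' h1 hk ⊢
    have : j ≤ 3 := by omega
    interval_cases j
    · simp at h24'
    · rfl
    · norm_num at h24'
    · exfalso
      have h3 : 3 ∣ 2 ^ k := ⟨8, by rw [← hk]⟩
      have := (Nat.prime_dvd_prime_iff_eq Nat.prime_three Nat.prime_two).mp
        (Nat.prime_three.dvd_of_dvd_pow h3)
      omega
  have h9 := hSi.card_mod_three hg
  rw [show Nat.card (S : Subgroup G) = Nat.card S' from hcard.symm, hk'] at h9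
  omega

set_option maxHeartbeats 1600000 in
open Classical in
/-- The arithmetic of the counterexample. -/
theorem card_eq : Nat.card G = 60 ∨ Nat.card G = 168 := by
  haveI := Fintype.ofFinite (Subgroup G)
  haveI := Fintype.ofFinite G
  have hg := hx.self
  set L := Nat.card G with hL
  let ord := Finite.equivFin (Subgroup G)
  set F : Finset (Subgroup G) := Finset.univ.filter fun H => MaxI g H ∧ cj τ H = H with hF
  set R : Finset (Subgroup G) := Finset.univ.filter
    fun H => MaxI g H ∧ cj τ H ≠ H ∧ ord H < ord (cj τ H) with hR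
  have memF : ∀ H ∈ F, MaxI g H ∧ cj τ H = H := fun H h => (Finset.mem_filter.mp h).2
  have memR : ∀ H ∈ R, MaxI g H ∧ cj τ H ≠ H := fun H h =>
    ⟨(Finset.mem_filter.mp h).2.1, (Finset.mem_filter.mp h).2.2.1⟩
  have repR : ∀ H ∈ R, ∀ H' ∈ R, H' ≠ cj τ H := fun H h H' h' e => by
    have h1 := (Finset.mem_filter.mp h).2.2.2
    have h2 := (Finset.mem_filter.mp h').2.2.2
    rw [e, hx.cj_cj] at h2
    exact lt_asymm h1 h2
  -- the count
  have hcount : L < 9 + 9 * (∑ H ∈ F, (Nat.card H - 1)) + 18 * (∑ H ∈ R, (Nat.card H - 1)) := by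
    have h1 := card_lt_nine_mul hg.ord hg.card_centralizer (isConj_iff.mpr ⟨τ, hx.tau⟩)
    rw [← hL] at h1
    let del : Subgroup G → Finset G := fun H => (Finset.univ.filter fun a => a ∈ H).erase 1
    have hdel : ∀ H, (del H).card = Nat.card H - 1 := fun H => by
      simp only [del]
      rw [Finset.card_erase_of_mem (by simp [one_mem]), Nat.card_eq_fintype_card, Fintype.card_subtype]
    have h2 : Nat.card {a : G // (a * g) ^ 3 = 1 ∧ (a * g ^ 2) ^ 3 = 1 ∧ a * g ≠ 1 ∧ a * g ^ 2 ≠ 1} ≤
        (insert 1 (F.biUnion del ∪ (R.biUnion del ∪ R.biUnion fun H => del (cj τ H)))).card := by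
      rw [Nat.card_eq_fintype_card, Fintype.card_subtype]
      refine Finset.card_le_card fun a ha => ?_
      obtain ⟨-, a1, a2, a3, a4⟩ := Finset.mem_filter.mp ha
      by_cases h : a = 1
      · exact Finset.mem_insert.mpr (Or.inl h)
      refine Finset.mem_insert_of_mem ?_
      obtain ⟨H, hH, haH⟩ := hx.cover a1 a2 a3 a4 h
      have hmem : ∀ K, a ∈ K → a ∈ del K := fun K hK => by simp [del, h, hK]
      by_cases hf : cj τ H = H
      · exact Finset.mem_union_left _ (Finset.mem_biUnion.mpr
          ⟨H, Finset.mem_filter.mpr ⟨Finset.mem_univ _, hH, hf⟩, hmem H haH⟩)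
      refine Finset.mem_union_right _ ?_
      rcases lt_trichotomy (ord H) (ord (cj τ H)) with hlt | heq | hgt
      · exact Finset.mem_union_left _ (Finset.mem_biUnion.mpr
          ⟨H, Finset.mem_filter.mpr ⟨Finset.mem_univ _, hH, hf, hlt⟩, hmem H haH⟩)
      · exact absurd (ord.injective heq).symm hf
      · refine Finset.mem_union_right _ (Finset.mem_biUnion.mpr ⟨cj τ H,
          Finset.mem_filter.mpr ⟨Finset.mem_univ _, hx.maxI_cj hH, ?_, ?_⟩, ?_⟩)
        · rw [hx.cj_cj]; exact Ne.symm hf
        · rw [hx.cj_cj]; exact hgt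
        · simp only [hx.cj_cj]; exact hmem H haH
    have hb : ∀ (s : Finset (Subgroup G)) (f : Subgroup G → Subgroup G),
        (∀ H, Nat.card (f H) = Nat.card H) →
        (s.biUnion fun H => del (f H)).card ≤ ∑ H ∈ s, (Nat.card H - 1) := fun s f hf =>
      Finset.card_biUnion_le.trans (Finset.sum_le_sum fun H _ => by rw [hdel, hf])
    have b1 : (F.biUnion del).card ≤ _ := hb F id fun _ => rfl
    have b2 : (R.biUnion del).card ≤ _ := hb R id fun _ => rfl
    have b3 := hb R (cj τ) fun H => card_cj τ H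
    have c1 := Finset.card_insert_le 1 (F.biUnion del ∪ (R.biUnion del ∪ R.biUnion fun H => del (cj τ H)))
    have c2 := Finset.card_union_le (F.biUnion del) (R.biUnion del ∪ R.biUnion fun H => del (cj τ H))
    have c3 := Finset.card_union_le (R.biUnion del) (R.biUnion fun H => del (cj τ H))
    omega
  -- twins are pairwise coprime
  have hcopR : ∀ H ∈ R, ∀ H' ∈ R, H ≠ H' → (Nat.card H).Coprime (Nat.card H') := by
    intro H h H' h' hne
    refine Nat.coprime_of_dvd fun p hp d1 d2 => ?_
    exact (hx.shared_prime (memR H h).1 (memR H' h').1 hp d1 d2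
      (Or.inr ⟨(memR H h).2, (memR H' h').2⟩)).elim hne.symm (repR H h H' h')
  have hR4 : ∀ H ∈ R, 4 ≤ Nat.card H := fun H h => hx.four_le (memR H h).1
  have hR3 : ∀ H ∈ R, Nat.card H % 3 = 1 := fun H h => (memR H h).1.inv.card_mod_three hg
  have h3dvd : 3 * (∏ H ∈ R, Nat.card H) ∣ L := by
    refine Nat.Coprime.mul_dvd_of_dvd_of_dvd (Nat.Coprime.prod_right fun H h => ?_)
      (hg.three_dvd_card) (prod_dvd_of_pairwise hcopR fun H _ => Subgroup.card_subgroup_dvd_card H)
    exact (Nat.prime_three.coprime_iff_not_dvd).mpr (memR H h).1.inv.cop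
  have hidxR : ∀ H ∈ R, ∃ r, 5 ≤ r ∧ L = 3 * Nat.card H * r ∧ L ∣ r.factorial := fun H h =>
    hx.index_bound (memR H h).1 (Or.inl rfl) (hx.card_normalizer_twin (memR H h).1 (memR H h).2)
  have hfullTwo : ∀ H ∈ R, 2 ∣ Nat.card H → 2 ^ L.factorization 2 ∣ Nat.card H := by
    intro H h h2
    have : Fact (Nat.Prime 2) := ⟨Nat.prime_two⟩
    obtain ⟨S, hS, -, -⟩ := hx.sylow_of_maxI (memR H h).1 h2 (Or.inr (memR H h).2)
    rw [hL, ← S.card_eq_multiplicity]
    exact Subgroup.card_dvd_of_le hS
  rcases F.eq_empty_or_nonempty with hF0 | hFne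
  · -- no fixed maximal invariant subgroup
    rw [hF0, Finset.sum_empty, mul_zero, add_zero] at hcount
    by_cases hsp : ∃ H ∈ R, Special g τ H
    · exfalso
      obtain ⟨E, hE, hp, -, h64, -⟩ := hsp
      obtain ⟨r, hr5, hLr, hrf⟩ := hidxR E hE
      rw [← Finset.add_sum_erase _ _ hE] at hcount
      rw [← Finset.mul_prod_erase _ _ hE] at h3dvd
      have h7 : ∀ H ∈ R.erase E, 7 ≤ Nat.card H := by
        intro H h
        obtain ⟨hne, hH⟩ := Finset.mem_erase.mp h
        have : Fact (Nat.Prime 2) := ⟨Nat.prime_two⟩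
        obtain ⟨k, hk⟩ := hp.exists_card_eq
        have hc := hcopR E hE H hH hne.symm
        rw [hk] at hc h64
        have hk0 : 0 < k := Nat.pos_of_ne_zero fun e => by rw [e] at h64; norm_num at h64
        have := (Nat.prime_two.coprime_iff_not_dvd).mp ((Nat.coprime_pow_left_iff hk0 _ _).mp hc)
        have := hR4 H hH
        have := hR3 H hH
        omega
      set P := ∏ H ∈ R.erase E, Nat.card H with hP
      have hS := sum_lt_prod (R.erase E) (fun H => Nat.card H) fun H h => by linarith [h7 H h]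
      rw [← hP] at hS
      have hle := Nat.le_of_dvd Nat.card_pos h3dvd
      rw [← hL] at hle
      rcases (R.erase E).eq_empty_or_nonempty with h0 | ⟨H, hH⟩
      · rw [h0, Finset.sum_empty, add_zero] at hcount
        have hr : r = 5 := by
          by_contra hr
          have := Nat.mul_le_mul_left (3 * Nat.card E) (show 6 ≤ r by omega)
          omega
        rw [hr] at hrf hLr
        have := Nat.le_of_dvd (by norm_num [Nat.factorial]) hrf
        norm_num [Nat.factorial] at this
        omega
      · have hPpos : 0 < ∏ K ∈ (R.erase E).erase H, Nat.card K :=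
          Finset.prod_pos fun K _ => Nat.card_pos
        have hP7 : 7 ≤ P := by
          rw [hP, ← Finset.mul_prod_erase _ _ hH]
          exact le_trans (h7 H hH) (Nat.le_mul_of_pos_right _ hPpos)
        have h18 : 18 * (Nat.card E - 1) + 18 ≤ 18 * Nat.card E := by omega
        nlinarith [Nat.mul_le_mul h64 hP7]
    · push Not at hsp
      have hsq : ∀ H ∈ R, 3 * Nat.card H * Nat.card H ≤ L := fun H h =>
        hx.sq_le_of_twin (memR H h).1 (memR H h).2 (hsp H h)
      by_cases hc3 : 3 ≤ R.card
      · exfalso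
        have h1 := six_sum_le_prod R (fun H => Nat.card H) hR4 hc3
        have h2 := Nat.le_of_dvd Nat.card_pos h3dvd
        rw [← hL] at h2
        omega
      by_cases hc2 : R.card = 2
      · exfalso
        obtain ⟨A, B, hAB, hRAB⟩ := Finset.card_eq_two.mp hc2
        have hA : A ∈ R := by simp [hRAB]
        have hB : B ∈ R := by simp [hRAB]
        rw [hRAB, Finset.sum_pair hAB] at hcount
        rw [hRAB, Finset.prod_pair hAB] at h3dvd
        have s1 := hsq A hA
        have s2 := hsq B hB
        have a4 := hR4 A hA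
        have b4 := hR4 B hB
        have a3 := hR3 A hA
        have b3 := hR3 B hB
        have hc := hcopR A hA B hB hAB
        have fA := hfullTwo A hA
        have fB := hfullTwo B hB
        obtain ⟨rA, -, hLA, -⟩ := hidxR A hA
        obtain ⟨rB, -, hLB, -⟩ := hidxR B hB
        have hA12 : Nat.card A ≤ 11 ∧ Nat.card B ≤ 11 := by
          set a := Nat.card A
          set b := Nat.card B
          have key : ∀ a b : ℕ, 4 ≤ a → 4 ≤ b → 3 * a * a ≤ L → b ≤ a →
              L < 9 + 18 * ((a - 1) + (b - 1)) → a ≤ 11 := by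
            intro a b ha hb h1 h2 h3
            by_contra hcon
            have h4 : 36 * a ≤ 3 * a * a := Nat.mul_le_mul (by omega) le_rfl
            omega
          rcases le_total (Nat.card A) (Nat.card B) with h | h
          · have := key b a b4 a4 s2 h (by rw [add_comm (b - 1)]; exact hcount)
            exact ⟨h.trans this, this⟩
          · have := key a b a4 b4 s1 h hcount
            exact ⟨this, h.trans this⟩
        obtain ⟨u1, u2⟩ := hA12
        set a := Nat.card A
        set b := Nat.card B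
        obtain ⟨q, hq⟩ := h3dvd
        have h84 : L = 168 → (a = 4 ∨ b = 4) → False := by
          intro hL168 hab
          have h8 : 2 ^ 3 ∣ L := by rw [hL168]; norm_num
          have h3 := (Nat.prime_two.pow_dvd_iff_le_factorization Nat.card_pos.ne').mp h8
          rw [← hL] at h3
          rcases hab with e | e
          · have := Nat.le_of_dvd (by omega) ((pow_dvd_pow 2 h3).trans (fA (by rw [e]; norm_num)))
            omega
          · have := Nat.le_of_dvd (by omega) ((pow_dvd_pow 2 h3).trans (fB (by rw [e]; norm_num)))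
            omega
        interval_cases a <;> interval_cases b <;>
          first
            | omega
            | (exact absurd hc (by decide))
            | (exfalso; exact h84 (by omega) (by omega))
      by_cases hc1 : R.card = 1
      · obtain ⟨A, hRA⟩ := Finset.card_eq_one.mp hc1
        have hA : A ∈ R := by simp [hRA]
        rw [hRA, Finset.sum_singleton] at hcount
        obtain ⟨r, hr5, hLr, -⟩ := hidxR A hA
        have s := hsq A hA
        have := hR4 A hA
        have := hR3 A hA
        have ha6 : Nat.card A ≤ 6 := by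
          by_contra hcon
          have h4 : 21 * Nat.card A ≤ 3 * Nat.card A * Nat.card A := Nat.mul_le_mul (by omega) le_rfl
          omega
        left
        obtain h4 : Nat.card A = 4 := by omega
        rw [h4] at hLr hcount
        omega
      · exfalso
        rw [Finset.card_eq_zero.mp (show R.card = 0 by omega), Finset.sum_empty] at hcount
        have := hx.twelve_le
        omega
  -- some fixed maximal invariant subgroup
  set m : Subgroup G → ℕ := fun H => Nat.card (ctau τ H) with hm
  have hsqm : ∀ H ∈ F, Nat.card H = m H * m H := fun H h => hx.card_fixed (memF H h).1 (memF H h).2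
  have hm2 : ∀ H ∈ F, 2 ≤ m H := fun H h => hx.two_le_m (memF H h).1 (memF H h).2
  obtain ⟨T, hT, hTmax⟩ := Finset.exists_max_image F m hFne
  set c := Nat.card (centralizer ({τ} : Set G)) with hc
  set M := ∑ H ∈ F, (m H - 1) with hM
  have hc1 : 2 * (1 + M) ≤ c := hx.two_mul_le_centralizer F memF
  have hLc : 3 * c * (1 + M) ≤ L := hx.three_mul_le_class F memF
  obtain ⟨rT, hrT, hLT, -⟩ := hx.index_bound (memF T hT).1 (Or.inr rfl)
    (hx.card_normalizer_fixed (memF T hT).1 (memF T hT).2)
  have h30 : 30 * Nat.card T ≤ L := by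
    rw [hL, hLT]
    calc 30 * Nat.card T = 6 * Nat.card T * 5 := by ring
      _ ≤ _ := Nat.mul_le_mul_left _ hrT
  -- split the twins into odd and even ones
  set Ro := R.filter fun H : Subgroup G => ¬ 2 ∣ Nat.card H with hRo
  set Re := R.filter fun H : Subgroup G => 2 ∣ Nat.card H with hRe
  have hsplit : ∑ H ∈ R, (Nat.card H - 1) =
      (∑ H ∈ Re, (Nat.card H - 1)) + ∑ H ∈ Ro, (Nat.card H - 1) :=
    (Finset.sum_filter_add_sum_filter_not R _ _).symm
  rw [hsplit] at hcount
  have hRoR : ∀ H ∈ Ro, H ∈ R ∧ ¬ 2 ∣ Nat.card H := fun H h => Finset.mem_filter.mp h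
  set Po := ∏ H ∈ Ro, Nat.card H with hPo
  set So := ∑ H ∈ Ro, (Nat.card H - 1) with hSo
  have hSP : So + 1 ≤ Po := sum_lt_prod Ro (fun H => Nat.card H) fun H _ => Nat.card_pos
  have hdvd : 6 * Nat.card T * Po ∣ L := by
    refine Nat.Coprime.mul_dvd_of_dvd_of_dvd (Nat.Coprime.prod_right fun H h => ?_)
      ?_ (prod_dvd_of_pairwise (fun i hi j hj => hcopR i (hRoR i hi).1 j (hRoR j hj).1)
        fun H _ => Subgroup.card_subgroup_dvd_card H)
    · obtain ⟨hR', hodd⟩ := hRoR H h
      refine Nat.Coprime.mul_left (Nat.Coprime.mul_left (m := 2) (n := 3) ?_ ?_) ?_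
      · exact Nat.prime_two.coprime_iff_not_dvd.mpr hodd
      · exact Nat.prime_three.coprime_iff_not_dvd.mpr (memR H hR').1.inv.cop
      · refine Nat.coprime_of_dvd fun p hp d1 d2 => ?_
        rcases hx.shared_prime (memF T hT).1 (memR H hR').1 hp d1 d2
          (Or.inl fun e => hodd (e ▸ d2)) with e | e
        · exact (memR H hR').2 (e ▸ (memF T hT).2)
        · exact (memR H hR').2 (by rw [e, hx.cj_cj]; exact (memF T hT).2.symm)
    · rw [← hx.card_normalizer_fixed (memF T hT).1 (memF T hT).2]
      exact Subgroup.card_subgroup_dvd_card _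
  have hPle : 6 * Nat.card T * Po ≤ L := Nat.le_of_dvd Nat.card_pos hdvd
  have hRe1 : Re.card ≤ 1 := Finset.card_le_one.mpr fun A hA B hB => by
    by_contra hne
    obtain ⟨hA', hA2⟩ := Finset.mem_filter.mp hA
    obtain ⟨hB', hB2⟩ := Finset.mem_filter.mp hB
    exact Nat.prime_two.not_dvd_one ((hcopR A hA' B hB' hne) ▸ Nat.dvd_gcd hA2 hB2)
  have hele : 6 * Nat.card T * (∑ H ∈ Re, (Nat.card H - 1)) ≤ L := by
    rcases Re.eq_empty_or_nonempty with h0 | ⟨E, hE⟩
    · rw [h0]; simp
    · have hRE : Re = {E} :=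
        (Finset.eq_singleton_iff_unique_mem).mpr ⟨hE, fun x hx' => Finset.card_le_one.mp hRe1 x hx' E hE⟩
      rw [hRE, Finset.sum_singleton]
      obtain ⟨hE', -⟩ := Finset.mem_filter.mp hE
      have hne : E ≠ T := fun e => (memR E hE').2 (e ▸ (memF T hT).2)
      exact le_trans (Nat.mul_le_mul_left _ (Nat.sub_le _ _))
        (hx.mul_le_of_fixed (memF T hT).1 (memF T hT).2 (memR E hE').1 hne)
  set Se := ∑ H ∈ Re, (Nat.card H - 1) with hSe
  set A := ∑ H ∈ F, (Nat.card H - 1) with hA
  have hT2 := hsqm T hT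
  have hmT2 := hm2 T hT
  -- contribution of the fixed ones
  have hAM : A ≤ (m T + 1) * M := by
    rw [hA, hM, Finset.mul_sum]
    refine Finset.sum_le_sum fun H h => ?_
    obtain ⟨d, hd⟩ : ∃ d, m H = d + 1 := ⟨m H - 1, by have := hm2 H h; omega⟩
    have := hTmax H h
    rw [hsqm H h, hd, show (d + 1) * (d + 1) - 1 = (d + 2) * d by
      rw [show (d + 1) * (d + 1) = (d + 2) * d + 1 by ring, Nat.add_sub_cancel], Nat.add_sub_cancel]
    exact Nat.mul_le_mul_right _ (by omega)
  have hno : ∀ W ∈ F, m W = 2 → Se = 0 := by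
    intro W hW h2
    refine Finset.sum_eq_zero fun H h => ?_
    obtain ⟨hH, hH2⟩ := Finset.mem_filter.mp h
    exact absurd hH2 (hx.no_even_twin (memF W hW).1 (memF W hW).2
      (by rw [hsqm W hW, h2]) (memR H hH).1 (memR H hH).2)
  by_cases h4 : 4 ≤ m T
  · exfalso
    have h16 : 16 ≤ Nat.card T := by rw [hT2]; exact Nat.mul_le_mul h4 h4
    have he : 96 * Se ≤ L := le_trans (Nat.mul_le_mul_right _ (by omega)) hele
    have hp : 96 * Po ≤ L := le_trans (Nat.mul_le_mul_right _ (by omega)) hPle
    by_cases hk : ∀ H ∈ F, H = T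
    · have hFT : F = {T} := Finset.eq_singleton_iff_unique_mem.mpr ⟨hT, hk⟩
      have : A = Nat.card T - 1 := by rw [hA, hFT, Finset.sum_singleton]
      omega
    push Not at hk
    obtain ⟨U, hU, hUT⟩ := hk
    have hcU : 2 * (m T * m U) ≤ c :=
      hx.mul_le_centralizer (memF T hT).1 (memF T hT).2 (memF U hU).1 (memF U hU).2 hUT
    by_cases hU4 : ∃ U ∈ F, U ≠ T ∧ 4 ≤ m U
    · obtain ⟨U, hU, hUT, hU4⟩ := hU4
      have hcU : 2 * (m T * m U) ≤ c :=
        hx.mul_le_centralizer (memF T hT).1 (memF T hT).2 (memF U hU).1 (memF U hU).2 hUT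
      have h8 : 8 * m T ≤ c := by
        have := Nat.mul_le_mul_left (m T) hU4
        omega
      have hAL : 24 * m T * (1 + M) ≤ L := by
        refine le_trans (Nat.mul_le_mul_right _ ?_) hLc
        omega
      have hA' : 32 * (9 + 9 * A) ≤ 15 * L := by
        have := Nat.mul_le_mul_right (1 + M) (show 4 * (m T + 1) ≤ 5 * m T by omega)
        linarith
      omega
    · push Not at hU4
      have hsmall : ∀ H ∈ F, H ≠ T → m H = 2 := fun H h hne => by
        have h1 := hU4 H h hne
        have h2 := hm2 H h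
        have h3 := (memF H h).1.inv.card_mod_three hg
        rw [hsqm H h] at h3
        interval_cases hh : m H <;> omega
      have hSe0 := hno U hU (hsmall U hU hUT)
      have hsumM : M = (m T - 1) + (F.erase T).card := by
        rw [hM, ← Finset.add_sum_erase _ _ hT]
        congr 1
        rw [Finset.card_eq_sum_ones]
        refine Finset.sum_congr rfl fun H h => ?_
        rw [hsmall H (Finset.mem_of_mem_erase h) (Finset.ne_of_mem_erase h)]
      have hsumA : A = (m T * m T - 1) + 3 * (F.erase T).card := by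
        rw [hA, ← Finset.add_sum_erase _ _ hT, hT2]
        congr 1
        rw [Finset.card_eq_sum_ones, Finset.mul_sum]
        refine Finset.sum_congr rfl fun H h => ?_
        rw [hsqm H (Finset.mem_of_mem_erase h),
          hsmall H (Finset.mem_of_mem_erase h) (Finset.ne_of_mem_erase h)]
        norm_num
      set j := (F.erase T).card with hj
      have hj1 : 1 ≤ j := Finset.card_pos.mpr ⟨U, Finset.mem_erase.mpr ⟨hUT, hU⟩⟩
      rw [hsmall U hU hUT] at hcU
      have hL12 : 12 * m T * (m T + j) ≤ L := by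
        refine le_trans (Nat.mul_le_mul ?_ ?_) hLc
        · omega
        · omega
      have hA' : 9 + 9 * A = 9 * (m T * m T + 3 * j) := by
        rw [hsumA]; have : 1 ≤ m T * m T := Nat.mul_pos (by omega) (by omega); omega
      by_cases h5 : 5 ≤ m T
      · have h9 : 4 * (9 * (m T * m T + 3 * j)) ≤ 3 * L := by
          have := Nat.mul_le_mul_right j (show 3 ≤ m T by omega)
          linarith
        have : 18 * So < 18 * Po := by omega
        omega
      · have hm4 : m T = 4 := by omega
        rw [hm4] at hA' hL12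
        omega
  -- every fixed one has order four
  have hm' : m T = 2 := by
    have h3 := (memF T hT).1.inv.card_mod_three hg
    rw [hT2] at h3
    interval_cases hh : m T <;> omega
  have hSe0 : Se = 0 := hno T hT hm'
  have hall : ∀ H ∈ F, m H = 2 := fun H h => le_antisymm (hm' ▸ hTmax H h) (hm2 H h)
  have hMk : M = F.card := by
    rw [hM, Finset.card_eq_sum_ones]
    exact Finset.sum_congr rfl fun H h => by rw [hall H h]
  have hA3 : A ≤ 3 * M := by rw [hm'] at hAM; exact hAM
  have hL6 : 6 * (1 + M) * (1 + M) ≤ L :=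
    le_trans (Nat.mul_le_mul_right _ (by omega)) hLc
  have hlt : L < 86 + 36 * So := by
    have h27 : 27 * (1 + M) ≤ 3 * (1 + M) * (1 + M) + 61 := by
      have := sq_nonneg ((2 * (1 + (M : ℤ))) - 9)
      have h : (27 * (1 + M) : ℤ) ≤ 3 * (1 + M) * (1 + M) + 61 := by nlinarith
      exact_mod_cast h
    have e : 2 * (3 * (1 + M) * (1 + M)) = 6 * (1 + M) * (1 + M) := by ring
    omega
  rw [hT2, hm'] at hPle hdvd h30
  norm_num at hPle hdvd h30
  have h7 : ∀ H ∈ Ro, 7 ≤ Nat.card H := fun H h => by
    obtain ⟨hR', hodd⟩ := hRoR H h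
    have := hR4 H hR'
    have := hR3 H hR'
    omega
  by_cases hc2 : 2 ≤ Ro.card
  · exfalso
    have := seven_sum_le_prod Ro (fun H => Nat.card H) h7 hc2
    simp only [← hPo, ← hSo] at this
    have hP49 : 49 ≤ Po := by
      obtain ⟨a, ha, b, hb, hab⟩ := Finset.one_lt_card.mp hc2
      have h1 : ∏ H ∈ ({a, b} : Finset (Subgroup G)), Nat.card H ≤ Po :=
        Finset.prod_le_prod_of_subset_of_one_le' (by simp [Finset.insert_subset_iff, ha, hb])
          fun H _ _ => Nat.card_pos
      rw [Finset.prod_pair hab] at h1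
      exact le_trans (Nat.mul_le_mul (h7 a ha) (h7 b hb)) h1
    omega
  by_cases hc1' : Ro.card = 1
  · obtain ⟨B, hRB⟩ := Finset.card_eq_one.mp hc1'
    have hB : B ∈ Ro := by simp [hRB]
    obtain ⟨hBR, hodd⟩ := hRoR B hB
    have hns : ¬ Special g τ B := fun hs => by
      obtain ⟨k, hk⟩ := (show IsPGroup 2 B from hs.1).exists_card_eq
      have h64 := hs.2.2.1
      rw [hk] at h64 hodd
      exact hodd (dvd_pow_self 2 fun h0 => by rw [h0] at h64; norm_num at h64)
    have hs := hx.sq_le_of_twin (memR B hBR).1 (memR B hBR).2 hns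
    have hSB : So = Nat.card B - 1 := by rw [hSo, hRB, Finset.sum_singleton]
    have hPB : Po = Nat.card B := by rw [hPo, hRB, Finset.prod_singleton]
    have b7 := h7 B hB
    have b3 := hR3 B hBR
    rw [← hL] at hs
    rw [hPB] at hdvd
    obtain ⟨q, hq⟩ := hdvd
    have hb14 : Nat.card B ≤ 14 := by
      by_contra hcon
      have h45 : 45 * Nat.card B ≤ 3 * Nat.card B * Nat.card B := Nat.mul_le_mul (by omega) le_rfl
      omega
    set b := Nat.card B
    have : b = 7 ∨ b = 13 := by omega
    rcases this with e | e <;> rw [e] at hq hs hSB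
    · right; omega
    · omega
  · exfalso
    have : So = 0 := by rw [hSo, Finset.card_eq_zero.mp (show Ro.card = 0 by omega), Finset.sum_empty]
    omega

end Ctx

end Cfsg.Agent.Lib.InvChar.SelfThree
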