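import Mathlib
import Cfsg.Agent.Lib.Components.Fitting
import Cfsg.Agent.S3779
import Cfsg.Agent.Lib.PGroups.FpfOrderThree

/-!
# Self-centralizing elements of order three: basic facts

`SelfThree g`: `g` has order three and centralizes only its powers.
`Inv g H`: `H` is a subgroup of order prime to three invariant under `g`.
-/

set_option autoImplicit false
set_option linter.unusedSectionVars false
set_option linter.dupNamespace false
set_option linter.style.haveILetI false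

namespace Cfsg.Agent.Lib.InvChar.SelfThree

open Subgroup
open scoped commutatorElement

universe u

variable {G : Type u} [Group G]

/-- `g` has order three and centralizes only its powers. -/
structure SelfThree (g : G) : Prop where
  ord : orderOf g = 3
  cen : ∀ x : G, x * g = g * x → x ∈ zpowers g

/-- A `g`-invariant subgroup of order prime to three. -/
structure Inv (g : G) (H : Subgroup G) : Prop where
  conj : ∀ x ∈ H, g * x * g⁻¹ ∈ H
  cop : ¬ 3 ∣ Nat.card H

theorem card_sup_dvd' [Finite G] {H K : Subgroup G} (h : H ≤ normalizer (K : Set G)) :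
    Nat.card (H ⊔ K : Subgroup G) ∣ Nat.card H * Nat.card K := by
  set N := normalizer (K : Set G) with hN
  haveI : (K.subgroupOf N).Normal := normal_subgroupOf_iff_le_normalizer le_normalizer |>.mpr le_rfl
  have h1 := Components.card_sup_dvd (H.subgroupOf N) (K.subgroupOf N)
  rw [← subgroupOf_sup h le_normalizer,
    Nat.card_congr (subgroupOfEquivOfLe (sup_le h le_normalizer)).toEquiv,
    Nat.card_congr (subgroupOfEquivOfLe h).toEquiv,
    Nat.card_congr (subgroupOfEquivOfLe (le_normalizer : K ≤ N)).toEquiv] at h1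
  exact h1

theorem mem_normalizer_of_forall [Finite G] {H : Subgroup G} {a : G}
    (h : ∀ x ∈ H, a * x * a⁻¹ ∈ H) : a ∈ normalizer (H : Set G) := by
  haveI : Finite (H : Set G) := inferInstanceAs (Finite H)
  refine mem_normalizer_iff.mpr fun x => ⟨h x, fun hx => ?_⟩
  let f : H → H := fun y => ⟨a * y.1 * a⁻¹, h _ y.2⟩
  have hf : Function.Injective f := fun y z hyz =>
    Subtype.ext (mul_left_cancel (mul_right_cancel (Subtype.mk.inj hyz)))
  obtain ⟨y, hy⟩ := Finite.surjective_of_injective hf ⟨_, hx⟩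
  rw [← mul_left_cancel (mul_right_cancel (congrArg Subtype.val hy))]
  exact y.2

namespace SelfThree

variable {g : G}

theorem cube (hg : SelfThree g) : g ^ 3 = 1 := hg.ord ▸ pow_orderOf_eq_one g

theorem ne_one (hg : SelfThree g) : g ≠ 1 := fun h => by
  have := hg.ord
  rw [h, orderOf_one] at this
  omega

theorem inv_eq (hg : SelfThree g) : g⁻¹ = g ^ 2 :=
  (eq_inv_of_mul_eq_one_left (by rw [← pow_succ]; exact hg.cube)).symm

theorem card_zpowers (hg : SelfThree g) : Nat.card (zpowers g) = 3 := by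
  rw [Nat.card_zpowers, hg.ord]

theorem mem_cases (hg : SelfThree g) {x : G} (hx : x ∈ zpowers g) : x = 1 ∨ x = g ∨ x = g ^ 2 := by
  obtain ⟨k, hk⟩ := mem_zpowers_iff.mp hx
  rw [← zpow_mod_orderOf, hg.ord] at hk
  have h1 := Int.emod_nonneg k (show ((3 : ℕ) : ℤ) ≠ 0 by norm_num)
  have h2 := Int.emod_lt_of_pos k (show (0 : ℤ) < ((3 : ℕ) : ℤ) by norm_num)
  have h3 : k % ((3 : ℕ) : ℤ) = 0 ∨ k % ((3 : ℕ) : ℤ) = 1 ∨ k % ((3 : ℕ) : ℤ) = 2 := by omega
  rcases h3 with h | h | h <;> rw [h] at hk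
  · exact Or.inl (by rw [← hk, zpow_zero])
  · exact Or.inr (Or.inl (by rw [← hk, zpow_one]))
  · exact Or.inr (Or.inr (by rw [← hk]; norm_cast))

theorem comm_iff (hg : SelfThree g) {x : G} : x * g = g * x ↔ x ∈ zpowers g := by
  refine ⟨hg.cen x, fun hx => ?_⟩
  obtain ⟨k, rfl⟩ := mem_zpowers_iff.mp hx
  exact ((Commute.refl g).zpow_left k).eq

theorem centralizer_eq (hg : SelfThree g) : centralizer ({g} : Set G) = zpowers g := by
  ext x
  rw [mem_centralizer_singleton_iff, ← hg.comm_iff]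

theorem card_centralizer (hg : SelfThree g) :
    Nat.card (centralizer ({g} : Set G)) = 3 := by rw [hg.centralizer_eq, hg.card_zpowers]

theorem conj_iff (hg : SelfThree g) (c : G) : SelfThree (c * g * c⁻¹) := by
  refine ⟨(MulEquiv.orderOf_eq (MulAut.conj c) g).trans hg.ord, fun x hx => ?_⟩
  have h := hg.cen (c⁻¹ * x * c) (by
    calc c⁻¹ * x * c * g = c⁻¹ * (x * (c * g * c⁻¹)) * c := by group
      _ = c⁻¹ * ((c * g * c⁻¹) * x) * c := by rw [hx]
      _ = g * (c⁻¹ * x * c) := by group)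
  obtain ⟨k, hk⟩ := mem_zpowers_iff.mp h
  refine mem_zpowers_iff.mpr ⟨k, ?_⟩
  rw [conj_zpow, hk]
  group

theorem inv (hg : SelfThree g) : SelfThree g⁻¹ := by
  refine ⟨by rw [orderOf_inv, hg.ord], fun x hx => ?_⟩
  rw [zpowers_inv]
  exact hg.cen x ((Commute.inv_right_iff (a := x)).mp hx).eq

variable [Finite G]

/-- `⟨g⟩` is a Sylow 3-subgroup. -/
theorem eq_zpowers_of_isPGroup (hg : SelfThree g) {P : Subgroup G} (hP : IsPGroup 3 P)
    (hgP : g ∈ P) : P = zpowers g := by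
  have : Fact (Nat.Prime 3) := ⟨Nat.prime_three⟩
  have : Nontrivial P := ⟨⟨⟨g, hgP⟩, 1, fun h => hg.ne_one (congrArg Subtype.val h)⟩⟩
  have : Nontrivial (center P) := hP.center_nontrivial
  obtain ⟨z, hz1⟩ := exists_ne (1 : center P)
  have hz : ∀ y ∈ P, y * ((z : P) : G) = ((z : P) : G) * y := fun y hy =>
    congrArg Subtype.val (mem_center_iff.mp z.2 ⟨y, hy⟩)
  have hz1' : ((z : P) : G) ≠ 1 := fun h => hz1 (Subtype.ext (Subtype.ext h))
  refine le_antisymm (fun x hx => hg.cen x ?_) (zpowers_le.mpr hgP)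
  have hzx := hz x hx
  rcases hg.mem_cases (hg.cen _ (hz g hgP).symm) with h | h | h
  · exact absurd h hz1'
  · rwa [h] at hzx
  · rw [h, ← hg.inv_eq] at hzx
    exact ((Commute.inv_right_iff (a := x)).mp hzx).eq

/-- `⟨g⟩` as a Sylow 3-subgroup. -/
noncomputable def sylow (hg : SelfThree g) : Sylow 3 G where
  toSubgroup := zpowers g
  isPGroup' := IsPGroup.of_card (n := 1) (by rw [hg.card_zpowers, pow_one])
  is_maximal' := fun hQ hle => hg.eq_zpowers_of_isPGroup hQ (hle (mem_zpowers g))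

theorem three_dvd_card (hg : SelfThree g) : 3 ∣ Nat.card G := hg.ord ▸ orderOf_dvd_natCard g

theorem not_nine_dvd (hg : SelfThree g) : ¬ 9 ∣ Nat.card G := by
  have : Fact (Nat.Prime 3) := ⟨Nat.prime_three⟩
  intro h
  have h1 : Nat.card hg.sylow = 3 := hg.card_zpowers
  have h2 := hg.sylow.card_eq_multiplicity
  rw [h1] at h2
  have h3 : 2 ≤ (Nat.card G).factorization 3 :=
    (Nat.prime_three.pow_dvd_iff_le_factorization Nat.card_pos.ne').mp (by norm_num; exact h)
  have := Nat.pow_le_pow_right (show 0 < 3 by norm_num) h3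
  omega

/-- Every element of order three is conjugate to `g` or its inverse. -/
theorem exists_conj (hg : SelfThree g) {y : G} (hy : orderOf y = 3) :
    ∃ c : G, c * g * c⁻¹ = y ∨ c * g * c⁻¹ = y⁻¹ := by
  have : Fact (Nat.Prime 3) := ⟨Nat.prime_three⟩
  have hp : IsPGroup 3 (zpowers y) := IsPGroup.of_card (n := 1) (by rw [Nat.card_zpowers, hy, pow_one])
  obtain ⟨Q, hQ⟩ := hp.exists_le_sylow
  obtain ⟨c, hc⟩ := MulAction.exists_smul_eq G hg.sylow Q
  have hyQ : y ∈ Q := hQ (mem_zpowers y)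
  rw [← hc] at hyQ
  obtain ⟨x, hx, hxy⟩ := hyQ
  have hxy' : c * x * c⁻¹ = y := hxy
  refine ⟨c, ?_⟩
  rcases hg.mem_cases hx with h | h | h
  · rw [h] at hxy'
    exfalso
    rw [← hxy'] at hy
    simp at hy
  · exact Or.inl (h ▸ hxy')
  · refine Or.inr ?_
    rw [h, ← hg.inv_eq] at hxy'
    rw [← hxy']; group

theorem of_orderOf (hg : SelfThree g) {y : G} (hy : orderOf y = 3) : SelfThree y := by
  obtain ⟨c, h | h⟩ := hg.exists_conj hy
  · exact h ▸ hg.conj_iff c
  · exact inv_inv y ▸ (h ▸ hg.conj_iff c).inv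

theorem subgroup (hg : SelfThree g) {M : Subgroup G} (hgM : g ∈ M) :
    SelfThree (⟨g, hgM⟩ : M) := by
  refine ⟨by rw [Subgroup.orderOf_mk, hg.ord], fun x hx => ?_⟩
  obtain ⟨k, hk⟩ := mem_zpowers_iff.mp (hg.cen (x : G) (congrArg Subtype.val hx))
  exact mem_zpowers_iff.mpr ⟨k, Subtype.ext (by simpa using hk)⟩

end SelfThree

namespace Inv

variable {g : G} {H K : Subgroup G}

theorem bot : Inv g (⊥ : Subgroup G) :=
  ⟨fun x hx => by rw [mem_bot] at hx; simp [hx], by simp⟩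

variable [Finite G]

theorem mem_normalizer (hH : Inv g H) : g ∈ normalizer (H : Set G) :=
  mem_normalizer_of_forall hH.conj

theorem of_normalized (hgH : g ∈ normalizer (H : Set G)) (hc : ¬ 3 ∣ Nat.card H) : Inv g H :=
  ⟨fun x hx => (mem_normalizer_iff.mp hgH x).mp hx, hc⟩

theorem mono (hH : Inv g H) (hK : K ≤ H) (h : ∀ x ∈ K, g * x * g⁻¹ ∈ K) : Inv g K :=
  ⟨h, fun hd => hH.cop (hd.trans (card_dvd_of_le hK))⟩

theorem inf (hH : Inv g H) (hK : Inv g K) : Inv g (H ⊓ K) :=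
  hH.mono inf_le_left fun x hx => mem_inf.mpr ⟨hH.conj x (mem_inf.mp hx).1, hK.conj x (mem_inf.mp hx).2⟩

theorem sup (hH : Inv g H) (hK : Inv g K) (hn : H ≤ normalizer (K : Set G)) :
    Inv g (H ⊔ K) := by
  refine ⟨fun x hx => ?_, fun h => ?_⟩
  · have e1 : H.map (MulAut.conj g).toMonoidHom ≤ H ⊔ K := by
      rintro _ ⟨y, hy, rfl⟩; exact mem_sup_left (hH.conj y hy)
    have e2 : K.map (MulAut.conj g).toMonoidHom ≤ H ⊔ K := by
      rintro _ ⟨y, hy, rfl⟩; exact mem_sup_right (hK.conj y hy)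
    have : (H ⊔ K).map (MulAut.conj g).toMonoidHom ≤ H ⊔ K := by
      rw [Subgroup.map_sup]; exact sup_le e1 e2
    exact this ⟨x, hx, rfl⟩
  · exact ((Nat.Prime.dvd_mul Nat.prime_three).mp (h.trans (card_sup_dvd' hn))).elim hH.cop hK.cop

theorem normalizer_inf (hH : Inv g H) (hK : Inv g K) :
    Inv g (H ⊓ normalizer (K : Set G)) :=
  hH.mono inf_le_left fun x hx => mem_inf.mpr ⟨hH.conj x (mem_inf.mp hx).1,
    mul_mem (mul_mem hK.mem_normalizer (mem_inf.mp hx).2) (inv_mem hK.mem_normalizer)⟩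

theorem centralizer_inf (hH : Inv g H) {K : Subgroup G} (hK : Inv g K) :
    Inv g (H ⊓ centralizer (K : Set G)) := by
  refine hH.mono inf_le_left fun x hx => mem_inf.mpr ⟨hH.conj x (mem_inf.mp hx).1, ?_⟩
  rw [mem_centralizer_iff]
  intro k hk
  have h1 : g⁻¹ * k * g ∈ K := by
    have := (mem_normalizer_iff.mp (inv_mem hK.mem_normalizer) k).mp hk
    rwa [inv_inv] at this
  have h2 := mem_centralizer_iff.mp (mem_inf.mp hx).2 _ h1
  calc k * (g * x * g⁻¹) = g * ((g⁻¹ * k * g) * x) * g⁻¹ := by group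
    _ = g * (x * (g⁻¹ * k * g)) * g⁻¹ := by rw [h2]
    _ = g * x * g⁻¹ * k := by group

theorem not_mem (hH : Inv g H) (hg : SelfThree g) : g ∉ H := fun h =>
  hH.cop (hg.ord ▸ orderOf_mk g h ▸ orderOf_dvd_natCard (⟨g, h⟩ : H))

theorem eq_one_of_comm (hH : Inv g H) (hg : SelfThree g) {x : G} (hx : x ∈ H)
    (hc : x * g = g * x) : x = 1 := by
  rcases hg.mem_cases (hg.cen x hc) with h | h | h
  · exact h
  · exact absurd (h ▸ hx) (hH.not_mem hg)
  · refine absurd ?_ (hH.not_mem hg)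
    have := inv_mem (h ▸ hx)
    rwa [← hg.inv_eq, inv_inv] at this

/-- Every element of `H` is `n g n⁻¹ g⁻¹` with `n ∈ H`. -/
theorem exists_eq (hH : Inv g H) (hg : SelfThree g) {x : G} (hx : x ∈ H) :
    ∃ n ∈ H, n * g * n⁻¹ * g⁻¹ = x := by
  let f : H → H := fun n => ⟨n.1 * (g * n.1⁻¹ * g⁻¹), mul_mem n.2 (hH.conj _ (inv_mem n.2))⟩
  have hf : Function.Injective f := by
    intro a b hab
    have h1 : a.1 * (g * a.1⁻¹ * g⁻¹) = b.1 * (g * b.1⁻¹ * g⁻¹) := Subtype.mk.inj hab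
    have h2 : b.1⁻¹ * a.1 = 1 := hH.eq_one_of_comm hg (mul_mem (inv_mem b.2) a.2) (by
      calc b.1⁻¹ * a.1 * g = b.1⁻¹ * (a.1 * (g * a.1⁻¹ * g⁻¹)) * g * a.1 := by group
        _ = b.1⁻¹ * (b.1 * (g * b.1⁻¹ * g⁻¹)) * g * a.1 := by rw [h1]
        _ = g * (b.1⁻¹ * a.1) := by group)
    exact Subtype.ext (inv_mul_eq_one.mp h2).symm
  obtain ⟨n, hn⟩ := Finite.surjective_of_injective hf ⟨x, hx⟩
  refine ⟨n, n.2, ?_⟩
  have := congrArg Subtype.val hn
  rw [← show n.1 * (g * n.1⁻¹ * g⁻¹) = x from this]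
  group

theorem triple (hH : Inv g H) (hg : SelfThree g) {x : G} (hx : x ∈ H) :
    x * (g * x * g⁻¹) * (g * (g * x * g⁻¹) * g⁻¹) = 1 := by
  obtain ⟨n, -, rfl⟩ := hH.exists_eq hg hx
  have g3 : g * g * g = 1 := by rw [← hg.cube, pow_succ, pow_two]
  calc _ = n * (g * g * g) * n⁻¹ * (g * g * g)⁻¹ := by group
    _ = 1 := by rw [g3]; group

/-- Conjugation by `g` as an automorphism of `H`. -/
noncomputable def aut (hH : Inv g H) : MulAut H where
  toFun x := ⟨g * x.1 * g⁻¹, hH.conj _ x.2⟩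
  invFun x := ⟨g⁻¹ * x.1 * g, by
    have := (Subgroup.mem_normalizer_iff.mp (inv_mem hH.mem_normalizer) x.1).mp x.2
    rwa [inv_inv] at this⟩
  left_inv x := Subtype.ext (show g⁻¹ * (g * x.1 * g⁻¹) * g = x.1 by group)
  right_inv x := Subtype.ext (show g * (g⁻¹ * x.1 * g) * g⁻¹ = x.1 by group)
  map_mul' x y := Subtype.ext (show g * (x.1 * y.1) * g⁻¹ = g * x.1 * g⁻¹ * (g * y.1 * g⁻¹) by group)

theorem aut_apply (hH : Inv g H) (x : H) : (hH.aut x : G) = g * x.1 * g⁻¹ := rfl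

theorem aut_fpf (hH : Inv g H) (hg : SelfThree g) : ∀ x : H, hH.aut x = x → x = 1 := by
  intro x hx
  have h : g * x.1 * g⁻¹ = x.1 := (hH.aut_apply x).symm.trans (congrArg Subtype.val hx)
  exact Subtype.ext (hH.eq_one_of_comm hg x.2 (mul_inv_eq_iff_eq_mul.mp h).symm)

theorem aut_cube (hH : Inv g H) (hg : SelfThree g) : hH.aut ^ 3 = 1 := by
  refine MulEquiv.ext fun x => Subtype.ext ?_
  show g * (g * (g * x.1 * g⁻¹) * g⁻¹) * g⁻¹ = x.1
  have g3 : g * g * g = 1 := by rw [← hg.cube, pow_succ, pow_two]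
  calc _ = g * g * g * x.1 * (g * g * g)⁻¹ := by group
    _ = _ := by rw [g3]; group

theorem orderOf_aut (hH : Inv g H) (hg : SelfThree g) (h : H ≠ ⊥) : orderOf hH.aut = 3 := by
  have : Fact (Nat.Prime 3) := ⟨Nat.prime_three⟩
  refine orderOf_eq_prime (hH.aut_cube hg) fun h1 => h ((Subgroup.eq_bot_iff_forall _).mpr ?_)
  intro x hx
  exact congrArg Subtype.val (hH.aut_fpf hg ⟨x, hx⟩ (by rw [h1]; rfl))

/-- The class is at most two. -/
theorem comm3 (hH : Inv g H) (hg : SelfThree g) {a b c : G} (ha : a ∈ H) (hb : b ∈ H)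
    (hc : c ∈ H) : ⁅⁅a, b⁆, c⁆ = 1 := by
  by_cases h : H = ⊥
  · subst h
    simp [mem_bot.mp ha]
  · have h2 := (Cfsg.Agent.S3779.result Nat.prime_three hH.aut (hH.orderOf_aut hg h)
      (hH.aut_fpf hg)).2.1 rfl
    have hm : ⁅⁅(⟨a, ha⟩ : H), (⟨b, hb⟩ : H)⁆, (⟨c, hc⟩ : H)⁆ ∈ (⊤ : Subgroup H).lowerCentralSeries 2 :=
      commutator_mem_commutator (commutator_mem_commutator (mem_top _) (mem_top _)) (mem_top _)
    rw [h2, mem_bot] at hm
    exact congrArg Subtype.val hm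

theorem isNilpotent (hH : Inv g H) (hg : SelfThree g) : Group.IsNilpotent H := by
  refine Subgroup.nilpotent_iff_lowerCentralSeries.mpr ⟨2, eq_bot_iff.mpr ?_⟩
  show ⁅⁅(⊤ : Subgroup H), ⊤⁆, ⊤⁆ ≤ ⊥
  have h1 : ⁅(⊤ : Subgroup H), ⊤⁆ ≤ center H := commutator_le.mpr fun a _ b _ =>
    mem_center_iff.mpr fun c => (commutatorElement_eq_one_iff_mul_comm.mp
      (Subtype.ext (hH.comm3 hg a.2 b.2 c.2))).symm
  exact commutator_le.mpr fun a ha b _ => mem_bot.mpr
    (commutatorElement_eq_one_iff_mul_comm.mpr (mem_center_iff.mp (h1 ha) b).symm)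

theorem card_mod_three (hH : Inv g H) (hg : SelfThree g) : Nat.card H % 3 = 1 := by
  have : Fact (Nat.Prime 3) := ⟨Nat.prime_three⟩
  have hp : IsPGroup 3 (zpowers hH.aut) := by
    intro x
    refine ⟨1, ?_⟩
    obtain ⟨k, hk⟩ := mem_zpowers_iff.mp x.2
    refine Subtype.ext ?_
    simp only [SubmonoidClass.coe_pow, OneMemClass.coe_one, pow_one, ← hk]
    rw [← zpow_natCast, ← zpow_mul, mul_comm, zpow_mul]
    simp [hH.aut_cube hg]
  have h := hp.card_modEq_card_fixedPoints H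
  have h1 : Nat.card (MulAction.fixedPoints (zpowers hH.aut) H) = 1 := by
    have : Subsingleton (MulAction.fixedPoints (zpowers hH.aut) H) :=
      ⟨fun a b => Subtype.ext ((hH.aut_fpf hg a.1 (a.2 ⟨hH.aut, mem_zpowers _⟩)).trans
        (hH.aut_fpf hg b.1 (b.2 ⟨hH.aut, mem_zpowers _⟩)).symm)⟩
    have : Nonempty (MulAction.fixedPoints (zpowers hH.aut) H) :=
      ⟨⟨1, fun f => map_one (f : MulAut H)⟩⟩
    exact Nat.card_eq_one_iff_unique.mpr ⟨inferInstance, inferInstance⟩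
  rw [h1] at h
  exact h

theorem map_conj (hH : Inv g H) {a : G} (ha : a * g * a⁻¹ = g ∨ a * g * a⁻¹ = g⁻¹) :
    Inv g (H.map (MulAut.conj a).toMonoidHom) := by
  refine ⟨?_, ?_⟩
  · rintro _ ⟨x, hx, rfl⟩
    show g * (a * x * a⁻¹) * g⁻¹ ∈ _
    rcases ha with h | h
    · refine ⟨g * x * g⁻¹, hH.conj x hx, ?_⟩
      show a * (g * x * g⁻¹) * a⁻¹ = _
      nth_rewrite 3 4 [← h]
      group
    · refine ⟨g⁻¹ * x * g, ?_, ?_⟩
      · have := (Subgroup.mem_normalizer_iff.mp (inv_mem hH.mem_normalizer) x).mp hx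
        rwa [inv_inv] at this
      · show a * (g⁻¹ * x * g) * a⁻¹ = _
        have h' : g = a * g⁻¹ * a⁻¹ := by
          calc g = (g⁻¹)⁻¹ := (inv_inv g).symm
            _ = (a * g * a⁻¹)⁻¹ := by rw [h]
            _ = a * g⁻¹ * a⁻¹ := by group
        nth_rewrite 3 4 [h']
        group
  · rw [Subgroup.card_map_of_injective (MulAut.conj a).injective]
    exact hH.cop

end Inv

namespace SelfThree

variable {g : G} [Finite G]

/-- The image of `g` modulo a normal subgroup of order prime to three. -/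
theorem map (hg : SelfThree g) {Q : Type*} [Group Q] (φ : G →* Q)
    (hφ : Function.Surjective φ) (hc : ¬ 3 ∣ Nat.card φ.ker) : SelfThree (φ g) := by
  have hI : Inv g φ.ker :=
    ⟨fun x hx => (MonoidHom.normal_ker φ).conj_mem x hx g, hc⟩
  refine ⟨?_, fun y hy => ?_⟩
  · have : Fact (Nat.Prime 3) := ⟨Nat.prime_three⟩
    exact orderOf_eq_prime (by rw [← map_pow, hg.cube, map_one]) fun h => hI.not_mem hg h
  · obtain ⟨n, rfl⟩ := hφ y
    have hmem : n * g * n⁻¹ * g⁻¹ ∈ φ.ker := by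
      rw [MonoidHom.mem_ker, map_mul, map_mul, map_mul, hy, map_inv, map_inv]
      group
    obtain ⟨m, hm, hmn⟩ := hI.exists_eq hg hmem
    have h : m⁻¹ * n ∈ zpowers g := hg.cen _ (by
      calc m⁻¹ * n * g = m⁻¹ * (n * g * n⁻¹ * g⁻¹) * g * n := by group
        _ = m⁻¹ * (m * g * m⁻¹ * g⁻¹) * g * n := by rw [hmn]
        _ = g * (m⁻¹ * n) := by group)
    have h2 : φ (m⁻¹ * n) ∈ (zpowers g).map φ := mem_map_of_mem φ h
    rwa [MonoidHom.map_zpowers, map_mul, map_inv, MonoidHom.mem_ker.mp hm, inv_one, one_mul] at h2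

/-- Either a normal 3-complement exists or some element inverts `g`. -/
theorem complement_or_inverter (hg : SelfThree g) :
    (∃ K : Subgroup G, K.Normal ∧ ¬ 3 ∣ Nat.card K ∧ K.index = 3) ∨
      ∃ t : G, orderOf t = 2 ∧ t * g * t⁻¹ = g⁻¹ := by
  have : Fact (Nat.Prime 3) := ⟨Nat.prime_three⟩
  by_cases h : normalizer ((hg.sylow : Subgroup G) : Set G) ≤ centralizer ((hg.sylow : Subgroup G) : Set G)
  · refine Or.inl ⟨(MonoidHom.transferSylow hg.sylow h).ker, inferInstance,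
      MonoidHom.not_dvd_card_ker_transferSylow hg.sylow h, ?_⟩
    rw [(MonoidHom.ker_transferSylow_isComplement' hg.sylow h).symm.index_eq_card]
    exact hg.card_zpowers
  · refine Or.inr ?_
    obtain ⟨t, ht, htc⟩ := SetLike.not_le_iff_exists.mp h
    have htc' : ¬ t * g = g * t := by
      intro e
      apply htc
      rw [mem_centralizer_iff]
      intro x hx
      obtain ⟨k, rfl⟩ := mem_zpowers_iff.mp (show x ∈ zpowers g from hx)
      exact ((show Commute g t from e.symm).zpow_left k).eq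
    have hm : t * g * t⁻¹ ∈ zpowers g := (mem_normalizer_iff.mp ht g).mp (mem_zpowers g)
    have hinv : t * g * t⁻¹ = g⁻¹ := by
      rcases hg.mem_cases hm with e | e | e
      · exfalso; exact hg.ne_one (conj_eq_one_iff.mp e)
      · exact absurd (mul_inv_eq_iff_eq_mul.mp e) htc'
      · rw [e, hg.inv_eq]
    refine ⟨t, ?_, hinv⟩
    have h2 : t ^ 2 ∈ zpowers g := hg.cen _ (by
      have e1 : t ^ 2 * g * (t ^ 2)⁻¹ = g := by
        calc t ^ 2 * g * (t ^ 2)⁻¹ = t * (t * g * t⁻¹) * t⁻¹ := by rw [pow_two]; group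
          _ = t * g⁻¹ * t⁻¹ := by rw [hinv]
          _ = (t * g * t⁻¹)⁻¹ := by group
          _ = g := by rw [hinv, inv_inv]
      exact mul_inv_eq_iff_eq_mul.mp e1)
    have ht1 : t ≠ 1 := fun e => htc' (by rw [e]; simp)
    have ht2 : t ^ 2 = 1 := by
      have e1 : t * t ^ 2 * t⁻¹ = (t ^ 2)⁻¹ := by
        obtain ⟨k, hk⟩ := mem_zpowers_iff.mp h2
        rw [← hk, ← conj_zpow, hinv, inv_zpow]
      have e2 : t ^ 2 = (t ^ 2)⁻¹ := by
        conv_lhs => rw [show t ^ 2 = t * t ^ 2 * t⁻¹ by group, e1]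
      rcases hg.mem_cases h2 with e | e | e
      · exact e
      · exfalso
        rw [e] at e2
        apply hg.ne_one
        calc g = g ^ 3 * (g * g)⁻¹ := by group
          _ = 1 := by rw [hg.cube, one_mul, inv_eq_one, mul_eq_one_iff_eq_inv]; exact e2
      · exfalso
        rw [e] at e2
        apply hg.ne_one
        calc g = (g ^ 2 * g ^ 2) * (g ^ 3)⁻¹ := by group
          _ = 1 := by rw [hg.cube, inv_one, mul_one, mul_eq_one_iff_eq_inv]; exact e2
    exact orderOf_eq_prime ht2 ht1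

end SelfThree

end Cfsg.Agent.Lib.InvChar.SelfThree
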