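import Cfsg.Agent.Lib.Characters.Values
import Cfsg.Agent.Lib.Characters.Convolution

/-!
# Self-centralizing elements of order three: the character count

If `g` has order three, is conjugate to its inverse and has centralizer of order three, then
`|G| < 9 · #{a | (a g)³ = (a g²)³ = 1}`.
-/

set_option autoImplicit false
set_option linter.style.haveILetI false
set_option linter.unusedSectionVars false

namespace Cfsg.Agent.Lib.InvChar.SelfThree

open Cfsg Cfsg.Agent.Lib.Characters Cfsg.Agent.Lib.BlockHeights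
open scoped ComplexConjugate

universe u

variable {G : Type u} [Group G] [Finite G]

/-- Values at a real element of order three are rational integers. -/
theorem exists_int_apply {g : G} (hg : orderOf g = 3) (hreal : IsConj g g⁻¹)
    (χ : IrrCharacter G) : ∃ z : ℤ, (χ : G → ℂ) g = (z : ℂ) := by
  classical
  obtain ⟨ι, hι, μ, hμ, h⟩ := exists_eigen_sum (irr_isCharacter χ) g
  rw [hg] at hμ
  have hinv : g⁻¹ = g ^ 2 := by
    have h3 : g ^ 3 = 1 := hg ▸ pow_orderOf_eq_one g
    exact (eq_inv_of_mul_eq_one_left (by rw [← pow_succ]; exact h3)).symm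
  have h1 := h 1
  have h2 := h 2
  simp only [pow_one] at h1
  rw [← hinv, ← IsClassFunction.eq_of_isConj (irr_isClassFunction χ) hreal] at h2
  have hpt : ∀ i, ∃ z : ℤ, μ i + μ i ^ 2 = (z : ℂ) := by
    intro i
    by_cases hi : μ i = 1
    · exact ⟨2, by rw [hi]; norm_num⟩
    · refine ⟨-1, ?_⟩
      have hm : (μ i - 1) * (μ i + μ i ^ 2 + 1) = 0 := by linear_combination hμ i
      have := (mul_eq_zero.mp hm).resolve_left (sub_ne_zero.mpr hi)
      push_cast
      linear_combination this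
  choose z hz using hpt
  have hsum : (χ : G → ℂ) g + (χ : G → ℂ) g = ((∑ i, z i : ℤ) : ℂ) := by
    nth_rewrite 1 [h1]
    rw [h2, ← Finset.sum_add_distrib]
    push_cast
    exact Finset.sum_congr rfl fun i _ => hz i
  have hq : (χ : G → ℂ) g = ((((∑ i, z i : ℤ) : ℚ) / 2 : ℚ) : ℂ) := by
    push_cast at hsum ⊢
    rw [eq_div_iff (two_ne_zero' ℂ)]
    linear_combination hsum
  obtain ⟨w, hw⟩ := exists_int_of_isIntegral_rat
    (hq ▸ IsCharacter.isIntegral (irr_isCharacter χ) g)
  exact ⟨w, by rw [hq, hw]; norm_num⟩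

/-- The sum `∑ χ(g)³ / χ(1)` exceeds one. -/
theorem exists_lt_sum_cube [Fintype (IrrCharacter G)] {g : G} (hg : orderOf g = 3)
    (hC : Nat.card (Subgroup.centralizer ({g} : Set G)) = 3) (hreal : IsConj g g⁻¹) :
    ∃ S : ℝ, 1 < S ∧ ∑ χ : IrrCharacter G,
      (χ : G → ℂ) g * (χ : G → ℂ) g * conj ((χ : G → ℂ) g⁻¹) / (χ : G → ℂ) 1 = (S : ℂ) := by
  classical
  choose v hv using fun χ => exists_int_apply hg hreal χ
  choose n hn0 hn using fun χ : IrrCharacter G => IsIrrCharacter.exists_apply_one χ.2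
  have hne : g ≠ 1 := by rintro rfl; rw [orderOf_one] at hg; omega
  have hsq : ∑ χ : IrrCharacter G, v χ ^ 2 = 3 := by
    have h := sum_irr_mul_conj g g
    rw [if_pos (IsConj.refl g), hC] at h
    simp only [hv, map_intCast] at h
    rw [← Int.cast_inj (α := ℂ)]
    push_cast
    rw [← show ((3 : ℕ) : ℂ) = 3 by norm_num, ← h]
    exact Finset.sum_congr rfl fun χ _ => by ring
  have hlin : ∑ χ : IrrCharacter G, v χ * n χ = 0 := by
    have h := sum_irr_mul_conj g (1 : G)
    rw [if_neg (fun h' => hne (isConj_one_left.mp h'))] at h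
    simp only [hv, hn, map_natCast] at h
    exact_mod_cast h
  let χ₀ : IrrCharacter G := ⟨fun _ => (1 : ℂ), isIrrCharacter_one⟩
  have hv0 : v χ₀ = 1 := by exact_mod_cast (hv χ₀).symm.trans (show (χ₀ : G → ℂ) g = 1 from rfl)
  have hn0' : n χ₀ = 1 := by
    exact_mod_cast (hn χ₀).symm.trans (show (χ₀ : G → ℂ) 1 = 1 from rfl)
  refine ⟨∑ χ : IrrCharacter G, (v χ : ℝ) ^ 3 / (n χ : ℝ), ?_, ?_⟩
  swap
  · push_cast
    refine Finset.sum_congr rfl fun χ _ => ?_
    rw [IsCharacter.apply_inv (irr_isCharacter χ), Complex.conj_conj, hv, hn]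
    ring
  have hm := Finset.mem_univ χ₀
  rw [← Finset.add_sum_erase _ _ hm, hv0] at hsq
  rw [← Finset.add_sum_erase _ _ hm, hv0, hn0'] at hlin
  set s := (Finset.univ.erase χ₀).filter (fun χ => v χ ≠ 0) with hs
  have hsub : s ⊆ Finset.univ.erase χ₀ := Finset.filter_subset _ _
  have hvz : ∀ χ ∈ Finset.univ.erase χ₀, χ ∉ s → v χ = 0 := fun χ h h' => by
    by_contra h0; exact h' (Finset.mem_filter.mpr ⟨h, h0⟩)
  have hs2 : ∑ χ ∈ s, v χ ^ 2 = 2 := by
    rw [Finset.sum_subset hsub fun χ h h' => by rw [hvz χ h h']; ring]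
    linarith
  have hs1 : ∀ χ ∈ s, v χ = 1 ∨ v χ = -1 := by
    intro χ hχ
    have h1 := Finset.single_le_sum (f := fun χ => v χ ^ 2) (fun χ _ => sq_nonneg (v χ)) hχ
    rw [hs2] at h1
    have h0 := (Finset.mem_filter.mp hχ).2
    have : -2 < v χ ∧ v χ < 2 := ⟨by nlinarith, by nlinarith⟩
    omega
  have hcard : s.card = 2 := by
    have : ∑ χ ∈ s, v χ ^ 2 = (s.card : ℤ) := by
      rw [Finset.sum_congr rfl (g := fun _ => (1 : ℤ)) fun χ hχ => ?_]
      · simp
      · rcases hs1 χ hχ with h | h <;> rw [h] <;> norm_num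
    rw [hs2] at this
    exact_mod_cast this.symm
  obtain ⟨a, b, hab, hseq⟩ := Finset.card_eq_two.mp hcard
  rw [← Finset.sum_subset hsub fun χ h h' => by rw [hvz χ h h']; ring, hseq,
    Finset.sum_pair hab] at hlin
  rw [← Finset.add_sum_erase _ _ hm, ← Finset.sum_subset hsub fun χ h h' => by
    rw [hvz χ h h']; norm_num, hseq, Finset.sum_pair hab, hv0, hn0']
  have ha := hs1 a (hseq ▸ Finset.mem_insert_self a _)
  have hb := hs1 b (hseq ▸ Finset.mem_insert_of_mem (Finset.mem_singleton_self b))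
  have hna : (0 : ℝ) < n a := by exact_mod_cast hn0 a
  have hnb : (0 : ℝ) < n b := by exact_mod_cast hn0 b
  have key : ∀ x y : IrrCharacter G, (0 : ℝ) < n x → n y = n x + 1 →
      0 < (1 : ℝ) / n x + (-1) / n y := by
    intro x y hx hxy
    rw [hxy]; push_cast
    rw [div_add_div _ _ hx.ne' (by linarith)]
    apply div_pos (by linarith)
    positivity
  have p1 := hn0 a
  have p2 := hn0 b
  rcases ha with ha | ha <;> rcases hb with hb | hb <;> rw [ha, hb] at hlin ⊢ <;> push_cast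
  · omega
  · have := key a b hna (by omega); norm_num at this ⊢; linarith
  · have := key b a hnb (by omega); norm_num at this ⊢; linarith
  · omega

/-- The count. -/
theorem card_lt_nine_mul {g : G} (hg : orderOf g = 3)
    (hC : Nat.card (Subgroup.centralizer ({g} : Set G)) = 3) (hreal : IsConj g g⁻¹) :
    Nat.card G < 9 * Nat.card {a : G // (a * g) ^ 3 = 1 ∧ (a * g ^ 2) ^ 3 = 1 ∧
      a * g ≠ 1 ∧ a * g ^ 2 ≠ 1} := by
  classical
  haveI := Fintype.ofFinite G
  haveI := Fintype.ofFinite (IrrCharacter G)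
  obtain ⟨S, hS, hsum⟩ := exists_lt_sum_cube hg hC hreal
  have h := card_class_mul g g g⁻¹
  rw [hsum] at h
  have hk := card_conj_mul_card_centralizer g
  rw [hC] at hk
  set k := Nat.card {x : G // IsConj g x} with hkdef
  have hG : (0 : ℝ) < Nat.card G := by exact_mod_cast Nat.card_pos
  have hR : (Nat.card {p : G × G // IsConj g p.1 ∧ IsConj g p.2 ∧ p.1 * p.2 = g⁻¹} : ℝ) =
      (k : ℝ) * k / Nat.card G * S := by
    apply Complex.ofReal_injective
    rw [Complex.ofReal_mul, Complex.ofReal_div, Complex.ofReal_mul, Complex.ofReal_natCast,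
      Complex.ofReal_natCast, Complex.ofReal_natCast]
    exact h
  have hk' : (k : ℝ) * 3 = Nat.card G := by exact_mod_cast hk
  have hlt : (Nat.card G : ℝ) <
      9 * Nat.card {p : G × G // IsConj g p.1 ∧ IsConj g p.2 ∧ p.1 * p.2 = g⁻¹} := by
    rw [hR, ← hk']
    have hk0 : (0 : ℝ) < k := by nlinarith
    field_simp
    nlinarith
  have hlt' : Nat.card G <
      9 * Nat.card {p : G × G // IsConj g p.1 ∧ IsConj g p.2 ∧ p.1 * p.2 = g⁻¹} := by
    exact_mod_cast hlt
  refine hlt'.trans_le (Nat.mul_le_mul_left 9 ?_)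
  have h3 : ∀ x : G, IsConj g x → x ^ 3 = 1 := fun x hx => by
    obtain ⟨c, rfl⟩ := isConj_iff.mp hx
    rw [conj_pow, ← hg, pow_orderOf_eq_one]; group
  have hne : ∀ x : G, IsConj g x → x ≠ 1 := fun x hx h => by
    rw [h, isConj_one_left] at hx
    rw [hx, orderOf_one] at hg
    omega
  refine Nat.card_le_card_of_injective
    (fun p => ⟨p.1.1 * g⁻¹, by rw [inv_mul_cancel_right]; exact h3 _ p.2.1, ?_,
      by rw [inv_mul_cancel_right]; exact hne _ p.2.1, ?_⟩) fun p q hpq => ?_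
  rotate_left
  · obtain ⟨⟨y, z⟩, hy, hz, hyz⟩ := p
    intro he
    refine hne z hz ?_
    have e : y * g⁻¹ * g ^ 2 = g⁻¹ * (g * y) * g⁻¹⁻¹ := by group
    have he' : y * g⁻¹ * g ^ 2 = 1 := he
    rw [e] at he'
    rw [show z = (g * y)⁻¹ by rw [mul_inv_rev, eq_inv_mul_iff_mul_eq]; exact hyz,
      conj_eq_one_iff.mp he', inv_one]
  rotate_left
  · obtain ⟨⟨y, z⟩, hy, hz, hyz⟩ := p
    have hzv : z = (g * y)⁻¹ := by rw [mul_inv_rev, eq_inv_mul_iff_mul_eq]; exact hyz
    have hgy : (g * y) ^ 3 = 1 := by rw [← inv_eq_one, ← inv_pow, ← hzv]; exact h3 _ hz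
    have e : y * g⁻¹ * g ^ 2 = g⁻¹ * (g * y) * g⁻¹⁻¹ := by group
    show (y * g⁻¹ * g ^ 2) ^ 3 = 1
    rw [e, conj_pow, hgy]; group
  · have h1 : p.1.1 = q.1.1 := mul_right_cancel (Subtype.mk.inj hpq)
    have h2 : p.1.2 = q.1.2 := by
      have := p.2.2.2.trans q.2.2.2.symm
      rw [h1] at this
      exact mul_left_cancel this
    exact Subtype.ext (Prod.ext h1 h2)

end Cfsg.Agent.Lib.InvChar.SelfThree
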