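import Cfsg.Agent.Lib.InvChar.SelfThree.Maximal
import Cfsg.Agent.Lib.InvChar.SelfThree.Count

/-!
# Self-centralizing elements of order three: bounds from maximal invariant subgroups
-/

set_option autoImplicit false
set_option linter.unusedSectionVars false
set_option linter.dupNamespace false
set_option linter.style.haveILetI false

namespace Cfsg.Agent.Lib.InvChar.SelfThree

open Subgroup

universe u

variable {G : Type u} [Group G]

/-- The elements of `H` commuting with `τ`. -/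
def ctau (τ : G) (H : Subgroup G) : Subgroup G := H ⊓ centralizer ({τ} : Set G)

theorem mem_ctau {τ : G} {H : Subgroup G} {a : G} :
    a ∈ ctau τ H ↔ a ∈ H ∧ a * τ = τ * a := by
  rw [ctau, mem_inf, mem_centralizer_singleton_iff]

variable [Finite G]

theorem card_mul_le {N K : Subgroup G} (h : N ⊓ K = ⊥) :
    Nat.card N * Nat.card K ≤ Nat.card G := by
  rw [← Nat.card_prod]
  exact Nat.card_le_card_of_injective _ (Subgroup.mul_injective_of_disjoint (disjoint_iff.mpr h))

theorem card_dvd_factorial {N : Subgroup G} (hs : IsSimpleGroup G) (hN : N ≠ ⊤) :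
    Nat.card G ∣ (N.index).factorial := by
  have h : (MulAction.toPermHom G (G ⧸ N)).ker = ⊥ := by
    rcases (MonoidHom.normal_ker (MulAction.toPermHom G (G ⧸ N))).eq_bot_or_eq_top with e | e
    · exact e
    · exfalso
      refine hN (eq_top_iff.mpr fun x _ => ?_)
      rw [← Subgroup.normalCore_eq_ker] at e
      exact Subgroup.normalCore_le N (e ▸ mem_top x)
  have h2 := Subgroup.card_dvd_of_injective _ ((MonoidHom.ker_eq_bot_iff _).mp h)
  rwa [Nat.card_perm, ← Subgroup.index_eq_card] at h2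

namespace Ctx

variable {g τ : G} (hx : Ctx g τ)
include hx

theorem tau_ne_one : τ ≠ 1 := fun h => by
  have h1 := hx.tau
  rw [h, one_mul, inv_one, mul_one] at h1
  have h2 : g ^ 2 = 1 := by rw [pow_two]; nth_rewrite 2 [h1]; exact mul_inv_cancel g
  have := orderOf_dvd_of_pow_eq_one h2
  rw [hx.self.ord] at this
  norm_num at this

theorem four_le {H : Subgroup G} (hH : MaxI g H) : 4 ≤ Nat.card H := by
  have h1 := hH.inv.card_mod_three hx.self
  have h2 : 1 < Nat.card H := (Subgroup.one_lt_card_iff_ne_bot _).mpr hH.ne_bot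
  omega

theorem cj_fixed {H : Subgroup G} (hf : cj τ H = H) {x : G} (hx' : x ∈ H) : τ * x * τ⁻¹ ∈ H :=
  hf ▸ mem_cj.mpr ⟨x, hx', rfl⟩

theorem tau_conj_g (x : G) : τ * (g * x * g⁻¹) * τ⁻¹ = g⁻¹ * (τ * x * τ⁻¹) * g := by
  calc τ * (g * x * g⁻¹) * τ⁻¹ = (τ * g * τ⁻¹) * (τ * x * τ⁻¹) * (τ * g * τ⁻¹)⁻¹ := by group
    _ = _ := by rw [hx.tau, inv_inv]

/-- `|H| = |C_H(τ)|²` for a fixed maximal invariant subgroup. -/
theorem card_fixed {H : Subgroup G} (hH : MaxI g H) (hf : cj τ H = H) :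
    Nat.card H = Nat.card (ctau τ H) * Nat.card (ctau τ H) := by
  classical
  have hg := hx.self
  set C := ctau τ H with hC
  refine le_antisymm ?_ ?_
  · -- `h / m ≤ m`
    have hcl : (C.subgroupOf H).index ≤ Nat.card C := by
      rw [Subgroup.index_eq_card]
      let f : H → C := fun a => by
        set n := a.1 * τ * a.1⁻¹ * τ⁻¹ with hn
        have hnH : n ∈ H := by
          rw [hn, show a.1 * τ * a.1⁻¹ * τ⁻¹ = a.1 * (τ * a.1⁻¹ * τ⁻¹) by group]
          exact mul_mem a.2 (hx.cj_fixed hf (inv_mem a.2))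
        have hnn : τ * n * τ⁻¹ = n⁻¹ := by
          rw [hn]
          calc τ * (a.1 * τ * a.1⁻¹ * τ⁻¹) * τ⁻¹ = τ * a.1 * τ * a.1⁻¹ * (τ * τ)⁻¹ := by group
            _ = τ * a.1 * τ⁻¹ * a.1⁻¹ := by rw [hx.tau_sq, inv_one, mul_one, hx.tau_inv]
            _ = _ := by group
        refine ⟨g * n * g⁻¹ * (g * (g * n * g⁻¹) * g⁻¹)⁻¹, mem_ctau.mpr
          ⟨mul_mem (hH.inv.conj n hnH) (inv_mem (hH.inv.conj _ (hH.inv.conj n hnH))), ?_⟩⟩
        have g3 : g * g * g = 1 := by rw [← hg.cube, pow_succ, pow_two]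
        have e1 : τ * (g * n * g⁻¹) * τ⁻¹ = (g * (g * n * g⁻¹) * g⁻¹)⁻¹ := by
          rw [hx.tau_conj_g, hnn]
          calc g⁻¹ * n⁻¹ * g = (g * g * g) * (g⁻¹ * n⁻¹ * g) * (g * g * g)⁻¹ := by rw [g3]; group
            _ = _ := by simp only [mul_inv_rev, inv_inv, mul_assoc, inv_mul_cancel_left, mul_inv_cancel_left]
        have e2 : τ * (g * (g * n * g⁻¹) * g⁻¹) * τ⁻¹ = (g * n * g⁻¹)⁻¹ := by
          rw [hx.tau_conj_g, e1]; group
        have hcm : g * n * g⁻¹ * (g * (g * n * g⁻¹) * g⁻¹) = g * (g * n * g⁻¹) * g⁻¹ * (g * n * g⁻¹) :=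
          congrArg Subtype.val (Cfsg.Agent.Lib.PGroups.FpfThree.comm_apply hH.inv.aut
            (fun k => Subtype.ext (hH.inv.triple hg k.2)) ⟨_, hH.inv.conj n hnH⟩)
        set p := g * n * g⁻¹
        set q := g * p * g⁻¹
        have e3 : τ * (p * q⁻¹) * τ⁻¹ = p * q⁻¹ := by
          calc τ * (p * q⁻¹) * τ⁻¹ = (τ * p * τ⁻¹) * (τ * q * τ⁻¹)⁻¹ := by group
            _ = q⁻¹ * (p * q) * q⁻¹ := by rw [e1, e2]; group
            _ = q⁻¹ * (q * p) * q⁻¹ := by rw [hcm]
            _ = p * q⁻¹ := by group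
        exact (mul_inv_eq_iff_eq_mul.mp e3).symm
      refine Nat.card_le_card_of_injective (fun q => f q.out) fun q1 q2 hq => ?_
      rw [← q1.out_eq, ← q2.out_eq]
      refine Quotient.sound (QuotientGroup.leftRel_apply.mpr (Subgroup.mem_subgroupOf.mpr ?_))
      set a : H := q1.out
      set b : H := q2.out
      set na := a.1 * τ * a.1⁻¹ * τ⁻¹ with hna
      set nb := b.1 * τ * b.1⁻¹ * τ⁻¹ with hnb
      have h1 : g * na * g⁻¹ * (g * (g * na * g⁻¹) * g⁻¹)⁻¹ =
          g * nb * g⁻¹ * (g * (g * nb * g⁻¹) * g⁻¹)⁻¹ := congrArg Subtype.val hq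
      have hz : nb⁻¹ * na ∈ H := by
        have aux : ∀ c : H, c.1 * τ * c.1⁻¹ * τ⁻¹ ∈ H := fun c => by
          rw [show c.1 * τ * c.1⁻¹ * τ⁻¹ = c.1 * (τ * c.1⁻¹ * τ⁻¹) by group]
          exact mul_mem c.2 (hx.cj_fixed hf (inv_mem c.2))
        exact mul_mem (inv_mem (aux b)) (aux a)
      have h2 : (g * (g * (nb⁻¹ * na) * g⁻¹) * g⁻¹) = g * (nb⁻¹ * na) * g⁻¹ := by
        calc g * (g * (nb⁻¹ * na) * g⁻¹) * g⁻¹
            = (g * (g * nb * g⁻¹) * g⁻¹)⁻¹ * (g * (g * na * g⁻¹) * g⁻¹) := by simp only [mul_inv_rev, inv_inv, mul_assoc, inv_mul_cancel_left, mul_inv_cancel_left]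
          _ = (g * nb * g⁻¹)⁻¹ * (g * nb * g⁻¹ * (g * (g * nb * g⁻¹) * g⁻¹)⁻¹) *
              (g * (g * na * g⁻¹) * g⁻¹) := by group
          _ = (g * nb * g⁻¹)⁻¹ * (g * na * g⁻¹ * (g * (g * na * g⁻¹) * g⁻¹)⁻¹) *
              (g * (g * na * g⁻¹) * g⁻¹) := by rw [h1]
          _ = _ := by group
      have h3 : g * (nb⁻¹ * na) * g⁻¹ = nb⁻¹ * na := mul_left_cancel (mul_right_cancel h2)
      have h4 : nb⁻¹ * na = 1 := hH.inv.eq_one_of_comm hg hz (mul_inv_eq_iff_eq_mul.mp h3).symm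
      have h5 : nb = na := inv_mul_eq_one.mp h4
      refine mem_ctau.mpr ⟨(a⁻¹ * b).2, ?_⟩
      show a.1⁻¹ * b.1 * τ = τ * (a.1⁻¹ * b.1)
      calc a.1⁻¹ * b.1 * τ = a.1⁻¹ * nb * τ * b.1 := by rw [hnb]; group
        _ = a.1⁻¹ * na * τ * b.1 := by rw [h5]
        _ = τ * (a.1⁻¹ * b.1) := by rw [hna]; group
    have h := Subgroup.card_mul_index (C.subgroupOf H)
    rw [Nat.card_congr (subgroupOfEquivOfLe (show C ≤ H from inf_le_left)).toEquiv] at h
    rw [← h]
    exact Nat.mul_le_mul_left _ hcl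
  · -- `m² ≤ h`
    set C' := cj g C with hC'
    have hC'H : C' ≤ H := by
      rintro _ ⟨y, hy, rfl⟩; exact hH.inv.conj y (mem_ctau.mp hy).1
    have hint : C ⊓ C' = ⊥ := by
      rw [eq_bot_iff]
      intro n hn
      obtain ⟨hn1, y, hy, hyn⟩ := mem_inf.mp hn
      obtain ⟨hnH, hnτ⟩ := mem_ctau.mp hn1
      have h2 : Commute n (g * τ * g⁻¹) := by
        have hyn' : g * y * g⁻¹ = n := hyn
        show n * (g * τ * g⁻¹) = g * τ * g⁻¹ * n
        rw [← hyn']
        calc g * y * g⁻¹ * (g * τ * g⁻¹) = g * (y * τ) * g⁻¹ := by group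
          _ = g * (τ * y) * g⁻¹ := by rw [(mem_ctau.mp hy).2]
          _ = _ := by group
      have h3 : τ * (g * τ * g⁻¹) = g := by
        calc τ * (g * τ * g⁻¹) = τ * g * τ⁻¹ * g⁻¹ := by rw [hx.tau_inv]; group
          _ = g⁻¹ * g⁻¹ := by rw [hx.tau]
          _ = g := by rw [hg.inv_eq, ← pow_add, pow_succ, hg.cube, one_mul]
      have h4 := Commute.mul_right (show Commute n τ from hnτ) h2
      rw [h3] at h4
      exact mem_bot.mpr (hH.inv.eq_one_of_comm hg hnH h4.eq)
    have h := card_mul_le (G := H) (N := C.subgroupOf H) (K := C'.subgroupOf H) (by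
      rw [eq_bot_iff]
      intro x hx'
      have : (x : G) ∈ C ⊓ C' := hx'
      rw [hint, mem_bot] at this
      exact mem_bot.mpr (Subtype.ext this))
    rwa [Nat.card_congr (subgroupOfEquivOfLe (show C ≤ H from inf_le_left)).toEquiv,
      Nat.card_congr (subgroupOfEquivOfLe hC'H).toEquiv, hC', card_cj] at h

theorem two_le_m {H : Subgroup G} (hH : MaxI g H) (hf : cj τ H = H) :
    2 ≤ Nat.card (ctau τ H) := by
  have h1 := hx.card_fixed hH hf
  have h2 := hx.four_le hH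
  by_contra h
  interval_cases hm : Nat.card (ctau τ H) <;> omega

/-- A fixed maximal subgroup's normalizer meets other ones trivially. -/
theorem normalizer_inf_eq_bot {H H' : Subgroup G} (hH : MaxI g H) (hH' : MaxI g H')
    (hd : H ⊓ H' = ⊥) : normalizer (H : Set G) ⊓ H' = ⊥ := by
  have hi : Inv g (normalizer (H : Set G) ⊓ H') := by
    rw [inf_comm]; exact hH'.inv.normalizer_inf hH.inv
  have h := (hx.normalizer_IA hH).2 _ hi inf_le_left
  exact eq_bot_iff.mpr (hd ▸ le_inf h inf_le_right)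

/-- `τ·C_H(τ)` avoids `C_{H'}(τ)`. -/
theorem tau_mul_ne {H H' : Subgroup G} (hH : MaxI g H) (hf : cj τ H = H) (hH' : MaxI g H')
    (hd : H = H' ∨ H ⊓ H' = ⊥) {a b : G} (ha : a ∈ H) (hb : b ∈ H') : τ * a ≠ b := by
  intro h
  have hτN := mem_normalizer_of_cj hf
  rcases hd with rfl | hd
  · exact hx.tau_not_mem hH.inv (by
      rw [show τ = τ * a * a⁻¹ by group, h]; exact mul_mem hb (inv_mem ha))
  · have hmem : b ∈ normalizer (H : Set G) ⊓ H' :=
      mem_inf.mpr ⟨h ▸ mul_mem hτN (le_normalizer ha), hb⟩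
    rw [hx.normalizer_inf_eq_bot hH hH' hd, mem_bot] at hmem
    rw [hmem, mul_eq_one_iff_eq_inv] at h
    exact hx.tau_not_mem hH.inv (h ▸ inv_mem ha)

theorem two_mul_le_centralizer (F : Finset (Subgroup G))
    (hF : ∀ H ∈ F, MaxI g H ∧ cj τ H = H) :
    2 * (1 + ∑ H ∈ F, (Nat.card (ctau τ H) - 1)) ≤ Nat.card (centralizer ({τ} : Set G)) := by
  classical
  haveI := Fintype.ofFinite G
  set s : Subgroup G → Finset G :=
    fun H => (Finset.univ.filter (fun x => x ∈ ctau τ H)).erase 1 with hs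
  set T : Finset G := insert 1 (F.biUnion s) with hT
  have hmem : ∀ x ∈ T, x = 1 ∨ ∃ H ∈ F, x ∈ ctau τ H := by
    intro x hx'
    rcases Finset.mem_insert.mp hx' with h | h
    · exact Or.inl h
    · obtain ⟨H, hH, hxH⟩ := Finset.mem_biUnion.mp h
      exact Or.inr ⟨H, hH, (Finset.mem_filter.mp (Finset.mem_erase.mp hxH).2).2⟩
  have hdisj : ∀ H ∈ F, ∀ H' ∈ F, H ≠ H' → H ⊓ H' = ⊥ := fun H hH H' hH' hne =>
    hx.disjoint_fixed (hF H hH).1 (hF H hH).2 (hF H' hH').1 hne.symm
  have hTcard : T.card = 1 + ∑ H ∈ F, (Nat.card (ctau τ H) - 1) := by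
    rw [hT, Finset.card_insert_of_notMem (by simp [hs]), add_comm, Finset.card_biUnion]
    · congr 1
      refine Finset.sum_congr rfl fun H _ => ?_
      rw [hs]
      simp only
      rw [Finset.card_erase_of_mem (by simp [one_mem]), Nat.card_eq_fintype_card, Fintype.card_subtype]
    · intro H hH H' hH' hne
      simp only [Function.onFun, Finset.disjoint_left]
      intro x hx1 hx2
      simp only [hs, Finset.mem_erase, Finset.mem_filter, Finset.mem_univ, true_and] at hx1 hx2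
      have := mem_inf.mpr ⟨(mem_ctau.mp hx1.2).1, (mem_ctau.mp hx2.2).1⟩
      rw [hdisj H hH H' hH' hne, mem_bot] at this
      exact hx1.1 this
  have hd : Disjoint T (T.image (τ * ·)) := by
    rw [Finset.disjoint_left]
    intro x hx1 hx2
    obtain ⟨a, ha, rfl⟩ := Finset.mem_image.mp hx2
    rcases hmem a ha with rfl | ⟨H, hH, haH⟩
    · rw [mul_one] at hx1
      rcases hmem τ hx1 with h | ⟨H, hH, hτH⟩
      · exact hx.tau_ne_one h
      · exact hx.tau_not_mem (hF H hH).1.inv (mem_ctau.mp hτH).1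
    · rcases hmem _ hx1 with h | ⟨H', hH', hxH'⟩
      · exact hx.tau_mul_ne (hF H hH).1 (hF H hH).2 (hF H hH).1 (Or.inl rfl) (mem_ctau.mp haH).1
          (one_mem H) h
      · refine hx.tau_mul_ne (hF H hH).1 (hF H hH).2 (hF H' hH').1 ?_ (mem_ctau.mp haH).1
          (mem_ctau.mp hxH').1 rfl
        by_cases he : H = H'
        · exact Or.inl he
        · exact Or.inr (hdisj H hH H' hH' he)
  have h2 : (T ∪ T.image (τ * ·)).card = 2 * T.card := by
    rw [Finset.card_union_of_disjoint hd,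
      Finset.card_image_of_injective _ (mul_right_injective τ)]
    ring
  rw [← hTcard, ← h2, Nat.card_eq_fintype_card, Fintype.card_subtype]
  refine Finset.card_le_card fun x hx' => ?_
  rw [Finset.mem_filter, mem_centralizer_singleton_iff]
  refine ⟨Finset.mem_univ _, ?_⟩
  have hT' : ∀ y ∈ T, y * τ = τ * y := fun y hy => by
    rcases hmem y hy with rfl | ⟨H, -, hyH⟩
    · simp
    · exact (mem_ctau.mp hyH).2
  rcases Finset.mem_union.mp hx' with h | h
  · exact hT' x h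
  · obtain ⟨y, hy, rfl⟩ := Finset.mem_image.mp h
    rw [mul_assoc, hT' y hy]

theorem mul_le_centralizer {H H' : Subgroup G} (hH : MaxI g H) (hf : cj τ H = H)
    (hH' : MaxI g H') (hf' : cj τ H' = H') (hne : H' ≠ H) :
    2 * (Nat.card (ctau τ H) * Nat.card (ctau τ H')) ≤ Nat.card (centralizer ({τ} : Set G)) := by
  classical
  have hd := hx.disjoint_fixed hH hf hH' hne
  have hd' : normalizer (H' : Set G) ⊓ H = ⊥ :=
    hx.normalizer_inf_eq_bot hH' hH (inf_comm H H' ▸ hd)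
  have h2 : Nat.card Bool = 2 := by rw [Nat.card_eq_fintype_card, Fintype.card_bool]
  rw [mul_comm, ← h2, ← Nat.card_prod, ← Nat.card_prod]
  refine Nat.card_le_card_of_injective
    (fun x => ⟨x.1.1.1 * x.1.2.1 * bif x.2 then τ else 1, ?_⟩) fun x y hxy => ?_
  · rw [mem_centralizer_singleton_iff]
    have h1 : Commute x.1.1.1 τ := (mem_ctau.mp x.1.1.2).2
    have h2 : Commute x.1.2.1 τ := (mem_ctau.mp x.1.2.2).2
    exact ((h1.mul_left h2).mul_left (by cases x.2 <;> simp)).eq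
  · obtain ⟨⟨⟨a, ha⟩, ⟨d, hd1⟩⟩, i⟩ := x
    obtain ⟨⟨⟨a', ha'⟩, ⟨d', hd1'⟩⟩, j⟩ := y
    have h : a * d * (bif i then τ else 1) = a' * d' * bif j then τ else 1 := Subtype.mk.inj hxy
    set e : G := (bif j then τ else 1) * (bif i then τ else 1)⁻¹ with he
    have heN : e ∈ normalizer (H' : Set G) := by
      have hτ := mem_normalizer_of_cj hf'
      rw [he]; cases i <;> cases j <;> simp [hτ, one_mem, mul_mem hτ (inv_mem hτ)]
    have h1 : a'⁻¹ * a = d' * e * d⁻¹ := by
      calc a'⁻¹ * a = a'⁻¹ * (a * d * (bif i then τ else 1)) * (bif i then τ else 1)⁻¹ * d⁻¹ := by group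
        _ = _ := by rw [h, he]; group
    have hN' := fun z (hz : z ∈ H') => (le_normalizer : H' ≤ normalizer (H' : Set G)) hz
    have hmem : a'⁻¹ * a ∈ normalizer (H' : Set G) ⊓ H := mem_inf.mpr
      ⟨h1 ▸ mul_mem (mul_mem (hN' _ (mem_ctau.mp hd1').1) heN) (inv_mem (hN' _ (mem_ctau.mp hd1).1)),
        mul_mem (inv_mem (mem_ctau.mp ha').1) (mem_ctau.mp ha).1⟩
    rw [hd', mem_bot, inv_mul_eq_one] at hmem
    subst hmem
    rw [mul_assoc, mul_assoc] at h
    have h3 := mul_left_cancel h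
    have hij : i = j := by
      cases i <;> cases j <;> simp only [cond_true, cond_false, mul_one] at h3 ⊢
      · exfalso; apply hx.tau_not_mem hH'.inv
        rw [show τ = d'⁻¹ * (d' * τ) by group, ← h3]
        exact mul_mem (inv_mem (mem_ctau.mp hd1').1) (mem_ctau.mp hd1).1
      · exfalso; apply hx.tau_not_mem hH'.inv
        rw [show τ = d⁻¹ * (d * τ) by group, h3]
        exact mul_mem (inv_mem (mem_ctau.mp hd1).1) (mem_ctau.mp hd1').1
    subst hij
    obtain rfl := mul_right_cancel h3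
    rfl

/-- The class of `τ` is large. -/
theorem three_mul_le_class (F : Finset (Subgroup G)) (hF : ∀ H ∈ F, MaxI g H ∧ cj τ H = H) :
    3 * Nat.card (centralizer ({τ} : Set G)) * (1 + ∑ H ∈ F, (Nat.card (ctau τ H) - 1)) ≤
      Nat.card G := by
  classical
  haveI := Fintype.ofFinite G
  have hg := hx.self
  -- the elements `a τ a⁻¹ τ⁻¹`, `a ∈ H`
  set I : Subgroup G → Finset G := fun H =>
    ((Finset.univ.filter fun a => a ∈ H).image fun a => a * τ * a⁻¹ * τ⁻¹).erase 1 with hI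
  have hIH : ∀ H ∈ F, ∀ x ∈ I H, x ∈ H ∧ IsConj τ (x * τ) := by
    intro H hH x hx'
    obtain ⟨-, hx''⟩ := Finset.mem_erase.mp hx'
    obtain ⟨a, ha, rfl⟩ := Finset.mem_image.mp hx''
    have haH : a ∈ H := (Finset.mem_filter.mp ha).2
    refine ⟨?_, isConj_iff.mpr ⟨a, by group⟩⟩
    rw [show a * τ * a⁻¹ * τ⁻¹ = a * (τ * a⁻¹ * τ⁻¹) by group]
    exact mul_mem haH (hx.cj_fixed (hF H hH).2 (inv_mem haH))
  have hIcard : ∀ H ∈ F, Nat.card (ctau τ H) - 1 ≤ (I H).card := by
    intro H hH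
    have h1 : Nat.card H ≤ Nat.card (ctau τ H) *
        ((Finset.univ.filter fun a => a ∈ H).image fun a => a * τ * a⁻¹ * τ⁻¹).card := by
      rw [Nat.card_eq_fintype_card, Fintype.card_subtype]
      refine Finset.card_le_mul_card_image _ _ fun b hb => ?_
      obtain ⟨a0, ha0, rfl⟩ := Finset.mem_image.mp hb
      rw [Nat.card_eq_fintype_card, Fintype.card_subtype]
      refine Finset.card_le_card_of_injOn (fun a => a0⁻¹ * a) (fun a ha => ?_)
        fun a _ b _ h => mul_left_cancel h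
      simp only [Finset.mem_coe, Finset.mem_filter, Finset.mem_univ, true_and] at ha ⊢
      refine mem_ctau.mpr ⟨mul_mem (inv_mem (Finset.mem_filter.mp ha0).2) ha.1, ?_⟩
      calc a0⁻¹ * a * τ = a0⁻¹ * (a * τ * a⁻¹ * τ⁻¹) * τ * a := by group
        _ = a0⁻¹ * (a0 * τ * a0⁻¹ * τ⁻¹) * τ * a := by rw [ha.2]
        _ = τ * (a0⁻¹ * a) := by group
    rw [hx.card_fixed (hF H hH).1 (hF H hH).2] at h1
    have h2 := Nat.le_of_mul_le_mul_left h1 Nat.card_pos
    rw [hI]
    simp only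
    rw [Finset.card_erase_of_mem (Finset.mem_image.mpr ⟨1, by simp [one_mem], by group⟩)]
    omega
  have hdisj : ∀ H ∈ F, ∀ H' ∈ F, H ≠ H' → H ⊓ H' = ⊥ := fun H hH H' hH' hne =>
    hx.disjoint_fixed (hF H hH).1 (hF H hH).2 (hF H' hH').1 hne.symm
  set T : Finset G := insert 1 (F.biUnion I) with hT
  have hTcard : 1 + ∑ H ∈ F, (Nat.card (ctau τ H) - 1) ≤ T.card := by
    rw [hT, Finset.card_insert_of_notMem (by simp [hI]), Finset.card_biUnion, add_comm]
    · exact Nat.add_le_add_right (Finset.sum_le_sum hIcard) 1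
    · intro H hH H' hH' hne
      simp only [Function.onFun, Finset.disjoint_left]
      intro x hx1 hx2
      have := mem_inf.mpr ⟨(hIH H hH x hx1).1, (hIH H' hH' x hx2).1⟩
      rw [hdisj H hH H' hH' hne, mem_bot] at this
      exact (Finset.mem_erase.mp hx1).1 this
  -- elements `xτ` conjugated by `⟨g⟩`
  have hTmem : ∀ x ∈ T, (x = 1 ∨ ∃ H ∈ F, x ∈ H) ∧ IsConj τ (x * τ) := by
    intro x hx'
    rcases Finset.mem_insert.mp hx' with rfl | h
    · exact ⟨Or.inl rfl, by rw [one_mul]⟩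
    · obtain ⟨H, hH, hxH⟩ := Finset.mem_biUnion.mp h
      exact ⟨Or.inr ⟨H, hH, (hIH H hH x hxH).1⟩, (hIH H hH x hxH).2⟩
  -- two such elements differ unless trivial
  have hsep : ∀ x ∈ T, ∀ y ∈ T, ∀ k ∈ zpowers g, k * (x * τ) * k⁻¹ = y * τ → k = 1 ∧ x = y := by
    intro x hx' y hy' k hk h
    have hkτ : τ * k⁻¹ = k * τ := by
      obtain ⟨i, rfl⟩ := mem_zpowers_iff.mp hk
      have : τ * g ^ (-i) * τ⁻¹ = g ^ i := by
        rw [← conj_zpow, hx.tau, inv_zpow, ← zpow_neg, neg_neg]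
      rw [← zpow_neg, ← mul_inv_eq_iff_eq_mul, this]
    have h1 : k * x * k⁻¹ * (k * k) = y := by
      have e : k * (x * τ) * k⁻¹ = k * x * k * τ := by rw [mul_assoc k, mul_assoc x, hkτ]; group
      rw [e] at h
      rw [← mul_right_cancel h]; group
    have hkk : k * k ∈ zpowers g := mul_mem hk hk
    have hxk : ∀ H : Subgroup G, Inv g H → x ∈ H → k * x * k⁻¹ ∈ H := fun H hH hxH =>
      (mem_normalizer_iff.mp (zpowers_le.mpr hH.mem_normalizer hk) x).mp hxH
    -- `k k = (k x k⁻¹)⁻¹ y` is fixed by `g`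
    set x' := k * x * k⁻¹ with hx'def
    have hfix : g * (x'⁻¹ * y) * g⁻¹ = x'⁻¹ * y := by
      have e : x'⁻¹ * y = k * k := by rw [← h1]; group
      rw [e, ← (hg.comm_iff.mpr hkk), mul_inv_cancel_right]
    have hone : x' = y := by
      rcases (hTmem x hx').1 with hx1 | ⟨H, hH, hxH⟩
      · have : x' = 1 := by rw [hx'def, hx1]; group
        rw [this] at hfix ⊢
        simp only [inv_one, one_mul] at hfix
        rcases (hTmem y hy').1 with hy1 | ⟨H', hH', hyH'⟩
        · exact hy1.symm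
        · exact ((hF H' hH').1.inv.eq_one_of_comm hg hyH' (mul_inv_eq_iff_eq_mul.mp hfix).symm).symm
      · have hxH' : x' ∈ H := hxk H (hF H hH).1.inv hxH
        rcases (hTmem y hy').1 with hy1 | ⟨H', hH', hyH'⟩
        · rw [hy1, mul_one] at hfix
          have := (hF H hH).1.inv.eq_one_of_comm hg (inv_mem hxH') (mul_inv_eq_iff_eq_mul.mp hfix).symm
          rw [hy1]; exact inv_eq_one.mp this
        · by_cases hHH : H = H'
          · subst hHH
            exact inv_mul_eq_one.mp ((hF H hH).1.inv.eq_one_of_comm hg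
              (mul_mem (inv_mem hxH') hyH') (mul_inv_eq_iff_eq_mul.mp hfix).symm)
          · have e : y * (g * y⁻¹ * g⁻¹) = x' * (g * x'⁻¹ * g⁻¹) := by
              calc y * (g * y⁻¹ * g⁻¹) = x' * (x'⁻¹ * y) * (g * y⁻¹ * g⁻¹) := by group
                _ = x' * (g * (x'⁻¹ * y) * g⁻¹) * (g * y⁻¹ * g⁻¹) := by rw [hfix]
                _ = _ := by group
            have m1 : x' * (g * x'⁻¹ * g⁻¹) ∈ H ⊓ H' := mem_inf.mpr
              ⟨mul_mem hxH' ((hF H hH).1.inv.conj _ (inv_mem hxH')),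
                e ▸ mul_mem hyH' ((hF H' hH').1.inv.conj _ (inv_mem hyH'))⟩
            rw [hdisj H hH H' hH' hHH, mem_bot] at m1
            have z1 : x' = 1 := (hF H hH).1.inv.eq_one_of_comm hg hxH'
              (mul_inv_eq_one.mp (by rw [← m1]; group))
            rw [z1] at hfix ⊢
            simp only [inv_one, one_mul] at hfix
            exact ((hF H' hH').1.inv.eq_one_of_comm hg hyH' (mul_inv_eq_iff_eq_mul.mp hfix).symm).symm
    rw [hone] at h1
    have hk2 : k * k = 1 := mul_left_cancel (a := y) (by rw [mul_one]; exact h1)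
    have hk1 : k = 1 := by
      have hk3 : k ^ 3 = 1 := by
        obtain ⟨i, rfl⟩ := mem_zpowers_iff.mp hk
        rw [← zpow_natCast, ← zpow_mul, mul_comm, zpow_mul, zpow_natCast, hg.cube, one_zpow]
      rwa [pow_succ, pow_two, hk2, one_mul] at hk3
    refine ⟨hk1, ?_⟩
    rw [hx'def, hk1] at hone
    simpa using hone
  have hinj : Function.Injective (fun p : zpowers g × T =>
      (⟨p.1.1 * (p.2.1 * τ) * p.1.1⁻¹, by
        refine (hTmem p.2.1 p.2.2).2.trans (isConj_iff.mpr ⟨p.1.1, rfl⟩)⟩ : {y : G // IsConj τ y})) := by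
    rintro ⟨⟨k, hk⟩, ⟨x, hx'⟩⟩ ⟨⟨l, hl⟩, ⟨y, hy⟩⟩ h
    have h' : k * (x * τ) * k⁻¹ = l * (y * τ) * l⁻¹ := congrArg Subtype.val h
    obtain ⟨e1, rfl⟩ := hsep x hx' y hy (l⁻¹ * k) (mul_mem (inv_mem hl) hk) (by
      calc l⁻¹ * k * (x * τ) * (l⁻¹ * k)⁻¹ = l⁻¹ * (k * (x * τ) * k⁻¹) * l := by group
        _ = y * τ := by rw [h']; group)
    obtain rfl : l = k := inv_mul_eq_one.mp e1
    rfl
  have h3 := Nat.card_le_card_of_injective _ hinj
  rw [Nat.card_prod, hg.card_zpowers, Nat.card_eq_fintype_card (α := T), Fintype.card_coe] at h3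
  rw [← Lib.Characters.card_conj_mul_card_centralizer τ, mul_right_comm]
  exact Nat.mul_le_mul_right _ ((Nat.mul_le_mul_left 3 hTcard).trans h3)

theorem mul_le_of_fixed {H H' : Subgroup G} (hH : MaxI g H) (hf : cj τ H = H)
    (hH' : MaxI g H') (hne : H' ≠ H) : 6 * Nat.card H * Nat.card H' ≤ Nat.card G := by
  rw [← hx.card_normalizer_fixed hH hf]
  exact card_mul_le (hx.normalizer_inf_eq_bot hH hH' (hx.disjoint_fixed hH hf hH' hne))

theorem sq_le_of_twin {H : Subgroup G} (hH : MaxI g H) (hf : cj τ H ≠ H)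
    (hns : ¬ Special g τ H) : 3 * Nat.card H * Nat.card H ≤ Nat.card G := by
  have hd : H ⊓ cj τ H = ⊥ := by
    by_contra h
    exact hns (hx.meet hH (hx.maxI_cj hH) hf h)
  have h := card_mul_le (hx.normalizer_inf_eq_bot hH (hx.maxI_cj hH) hd)
  rwa [hx.card_normalizer_twin hH hf, card_cj] at h

theorem index_bound {H : Subgroup G} (hH : MaxI g H) {k : ℕ} (hk : k = 3 ∨ k = 6)
    (hc : Nat.card (normalizer (H : Set G)) = k * Nat.card H) :
    ∃ r, 5 ≤ r ∧ Nat.card G = k * Nat.card H * r ∧ Nat.card G ∣ r.factorial := by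
  have htop := hx.normalizer_ne_top hH.inv hH.ne_bot
  have h := Subgroup.card_mul_index (normalizer (H : Set G))
  rw [hc] at h
  refine ⟨_, ?_, h.symm, card_dvd_factorial hx.simple htop⟩
  by_contra hr
  have h1 := card_dvd_factorial hx.simple htop
  have h2 : 1 < (normalizer (H : Set G)).index := Subgroup.one_lt_index_of_ne_top htop
  have h4 := hx.four_le hH
  rw [← h] at h1
  set r := (normalizer (H : Set G)).index
  have hr' : r = 2 ∨ r = 3 ∨ r = 4 := by omega
  rcases hr' with e | e | e <;> rw [e] at h1 <;> norm_num [Nat.factorial] at h1 <;>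
    have := Nat.le_of_dvd (by norm_num) h1 <;> rcases hk with rfl | rfl <;> omega

/-- The set counted by the character argument lies in the invariant subgroups. -/
theorem cover {a : G} (h1 : (a * g) ^ 3 = 1) (h2 : (a * g ^ 2) ^ 3 = 1) (h3 : a * g ≠ 1)
    (h4 : a * g ^ 2 ≠ 1) (ha : a ≠ 1) : ∃ H, MaxI g H ∧ a ∈ H := by
  have hg := hx.self
  set a' := g * a * g⁻¹ with ha'
  set a'' := g * a' * g⁻¹ with ha''
  have g3 : g * g * g = 1 := by rw [← hg.cube, pow_succ, pow_two]
  have e1 : a * a' * a'' = 1 := by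
    calc a * a' * a'' = (a * g) ^ 3 * (g * g * g)⁻¹ := by rw [pow_succ, pow_two, ha'', ha']; group
      _ = 1 := by rw [h1, g3, inv_one, one_mul]
  have e2 : a * a'' * a' = 1 := by
    calc a * a'' * a' = (g * g * g)⁻¹ * (a * (g * (g * a * g⁻¹) * g⁻¹) * ((g * g * g) * (g * a * g⁻¹) * (g * g * g)⁻¹)) * (g * g * g) := by
          rw [g3, ha'', ha']; group
      _ = (g * g * g)⁻¹ * ((a * g ^ 2) ^ 3 * ((g * g * g) * (g * g * g))⁻¹) * (g * g * g) := by
          simp only [pow_succ, pow_zero, one_mul, mul_inv_rev, inv_inv, mul_assoc, inv_mul_cancel_left, mul_inv_cancel_left]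
      _ = 1 := by rw [h2, g3]; group
  have e3 : a' * a'' = a'' * a' := by
    rw [mul_assoc] at e1 e2
    exact mul_left_cancel (e1.trans e2.symm)
  have e4 : a * a' = a' * a := by
    calc a * a' = g⁻¹ * (a' * a'') * g := by rw [ha'', ha']; group
      _ = g⁻¹ * (a'' * a') * g := by rw [e3]
      _ = a' * a := by rw [ha'', ha']; group
  set A := closure ({a, a'} : Set G) with hA
  have hAc : A ≤ centralizer (A : Set G) := by
    rw [hA, Subgroup.centralizer_closure, closure_le]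
    intro x hx'
    rw [SetLike.mem_coe, mem_centralizer_iff]
    intro y hy
    simp only [Set.mem_insert_iff, Set.mem_singleton_iff] at hx' hy
    rcases hx' with rfl | rfl <;> rcases hy with rfl | rfl <;> first | rfl | exact e4 | exact e4.symm
  have haA : a ∈ A := subset_closure (Or.inl rfl)
  have ha'A : a' ∈ A := subset_closure (Or.inr rfl)
  have ha''A : a'' ∈ A := by
    rw [eq_inv_of_mul_eq_one_right e1]; exact inv_mem (mul_mem haA ha'A)
  have hconj : ∀ x ∈ A, g * x * g⁻¹ ∈ A := by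
    have : A ≤ A.comap (MulAut.conj g).toMonoidHom := by
      rw [hA, closure_le]
      rintro x (rfl | rfl)
      · exact ha'A
      · exact ha''A
    exact fun x hx' => this hx'
  have hI : Inv g A := by
    refine ⟨hconj, fun hd => ?_⟩
    have : Fact (Nat.Prime 3) := ⟨Nat.prime_three⟩
    obtain ⟨x, hxo⟩ := exists_prime_orderOf_dvd_card' (G := A) 3 hd
    have hxo' : orderOf (x : G) = 3 := by rw [Subgroup.orderOf_coe, hxo]
    have hsx := hg.of_orderOf hxo'
    have hsub : A ≤ zpowers (x : G) := fun y hy =>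
      hsx.cen y (mem_centralizer_iff.mp (hAc hy) x x.2).symm
    have hgx : g * x.1 * g⁻¹ ∈ zpowers (x : G) := hsub (hconj _ x.2)
    have hgfix : g * x.1 * g⁻¹ = x := by
      rcases hsx.mem_cases hgx with e | e | e
      · exact absurd (conj_eq_one_iff.mp e) hsx.ne_one
      · exact e
      · exfalso
        rw [← hsx.inv_eq] at e
        have e' : g * (g * (g * x.1 * g⁻¹) * g⁻¹) * g⁻¹ = (x : G)⁻¹ := by
          rw [e, show g * (x : G)⁻¹ * g⁻¹ = (g * x.1 * g⁻¹)⁻¹ by group, e, inv_inv, e]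
        rw [show g * (g * (g * x.1 * g⁻¹) * g⁻¹) * g⁻¹ = g * g * g * x.1 * (g * g * g)⁻¹ by group,
          g3, inv_one, one_mul, mul_one] at e'
        have : (x : G) ^ 2 = 1 := by rw [pow_two]; nth_rewrite 2 [e']; exact mul_inv_cancel _
        have := orderOf_dvd_of_pow_eq_one this
        rw [hxo'] at this
        norm_num at this
    have hxg : (x : G) ∈ zpowers g := hg.cen _ (mul_inv_eq_iff_eq_mul.mp hgfix).symm
    have haX : a ∈ zpowers g := zpowers_le.mpr hxg (hsub haA)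
    rcases hg.mem_cases haX with e | e | e
    · exact ha e
    · exact h4 (by rw [e, ← pow_succ', hg.cube])
    · exact h3 (by rw [e, ← pow_succ, hg.cube])
  obtain ⟨H, hH, hAH⟩ := exists_maxI hI fun e => ha (mem_bot.mp (e ▸ haA))
  exact ⟨H, hH, hAH haA⟩

end Ctx

end Cfsg.Agent.Lib.InvChar.SelfThree
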