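import Cfsg.Agent.Lib.InvChar.SelfThree.Types

/-!
# Self-centralizing elements of order three: maximal invariant subgroups
-/

set_option autoImplicit false
set_option linter.unusedSectionVars false
set_option linter.dupNamespace false
set_option linter.style.haveILetI false

namespace Cfsg.Agent.Lib.InvChar.SelfThree

open Subgroup
open scoped commutatorElement

universe u

variable {G : Type u} [Group G]

/-- The situation of a minimal counterexample. -/
structure Ctx (g τ : G) : Prop where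
  simple : IsSimpleGroup G
  self : SelfThree g
  tau : τ * g * τ⁻¹ = g⁻¹
  tau_sq : τ * τ = 1
  types : ∀ M : Subgroup G, M ≠ ⊤ → g ∈ M → IA g M ∨ (∃ E, IB g τ M E) ∨ IC g M

/-- A nontrivial maximal invariant subgroup. -/
structure MaxI (g : G) (H : Subgroup G) : Prop where
  inv : Inv g H
  ne_bot : H ≠ ⊥
  eq_of_le : ∀ K : Subgroup G, Inv g K → H ≤ K → K = H

/-- An exceptional twin. -/
def Special (g τ : G) (H : Subgroup G) : Prop :=
  IsPGroup 2 H ∧ cj τ H ≠ H ∧ 64 ≤ Nat.card H ∧ 5 ∣ Nat.card G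

variable [Finite G]

theorem exists_maxI {g : G} {K : Subgroup G} (hK : Inv g K) (hne : K ≠ ⊥) :
    ∃ H, MaxI g H ∧ K ≤ H := by
  obtain ⟨H, hH, hmax⟩ := (Set.toFinite {H : Subgroup G | Inv g H ∧ K ≤ H}).exists_maximal ⟨K, hK, le_rfl⟩
  refine ⟨H, ⟨hH.1, fun h => hne (le_bot_iff.mp (h ▸ hH.2)), fun L hL hle => ?_⟩, hH.2⟩
  exact le_antisymm (hmax ⟨hL, hH.2.trans hle⟩ hle) hle

theorem isPGroup_two_of_sq {E : Subgroup G} (h : ∀ a ∈ E, a * a = 1) : IsPGroup 2 E := fun a =>
  ⟨1, Subtype.ext (by rw [pow_one, SubmonoidClass.coe_pow, pow_two]; exact h a a.2)⟩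

theorem lt_inf_normalizer {H D : Subgroup G} (hnil : Group.IsNilpotent H) (hlt : D < H) :
    D < H ⊓ normalizer (D : Set G) := by
  haveI := hnil
  have hD : D.subgroupOf H < ⊤ :=
    lt_top_iff_ne_top.mpr fun h => hlt.not_ge (subgroupOf_eq_top.mp h)
  have h := Group.normalizerCondition_of_isNilpotent (G := H) (D.subgroupOf H) hD
  rw [SetLike.lt_iff_le_and_exists] at h ⊢
  refine ⟨le_inf hlt.le le_normalizer, ?_⟩
  obtain ⟨-, x, hx, hxD⟩ := h
  refine ⟨(x : G), mem_inf.mpr ⟨x.2, mem_normalizer_of_forall fun y hy => ?_⟩, hxD⟩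
  exact (mem_normalizer_iff.mp hx (⟨y, hlt.le hy⟩ : H)).mp hy

theorem comm_of_pow_eq_one {E : Subgroup G} {g : G} (hE : Inv g E) (hg : SelfThree g) {q e : G}
    (hq : q ∈ E) (he : e ∈ E) (hodd : ¬ 2 ∣ orderOf q) (he2 : e * e = 1) : q * e = e * q := by
  rw [← commutatorElement_eq_one_iff_mul_comm]
  set c := ⁅q, e⁆ with hc
  have hcen : ∀ m ∈ E, c * m = m * c := fun m hm =>
    commutatorElement_eq_one_iff_mul_comm.mp (hE.comm3 hg hq he hm)
  have h2 : c * c = 1 := by
    have : ⁅q, e * e⁆ = c * c := by rw [comm_prod_right, ← hc, ← hcen e he, mul_inv_cancel_right]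
    rw [← this, he2, commutatorElement_one_right]
  have hpow : ∀ k : ℕ, ⁅q ^ k, e⁆ = c ^ k := by
    intro k
    induction k with
    | zero => simp
    | succ k ih =>
      have : q ^ k * c * (q ^ k)⁻¹ = c := by
        rw [← hcen _ (pow_mem hq k), mul_inv_cancel_right]
      rw [pow_succ, comm_prod_left, ← hc, this, ih, ← pow_succ']
  have hn : c ^ orderOf q = 1 := by rw [← hpow, pow_orderOf_eq_one, commutatorElement_one_left]
  obtain ⟨k, hk⟩ : Odd (orderOf q) := Nat.not_even_iff_odd.mp fun h => hodd (even_iff_two_dvd.mp h)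
  rw [hk, pow_succ, pow_mul, pow_two, h2, one_pow, one_mul] at hn
  exact hn

namespace Ctx

variable {g τ : G} (hx : Ctx g τ)
include hx

theorem tau_inv : τ⁻¹ = τ := inv_eq_of_mul_eq_one_right hx.tau_sq

theorem tau_conj_mem {H : Subgroup G} (hH : Inv g H) : Inv g (cj τ H) :=
  hH.map_conj (Or.inr hx.tau)

theorem cj_cj (H : Subgroup G) : cj τ (cj τ H) = H := by
  rw [← cj_mul, hx.tau_sq, cj_one]

theorem tau_not_mem {H : Subgroup G} (hH : Inv g H) : τ ∉ H := by
  intro h
  refine hH.not_mem hx.self ?_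
  have h1 : τ * (g * τ⁻¹ * g⁻¹) ∈ H := mul_mem h (hH.conj _ (inv_mem h))
  have h2 : τ * (g * τ⁻¹ * g⁻¹) = g := by
    calc τ * (g * τ⁻¹ * g⁻¹) = τ * g * τ⁻¹ * g⁻¹ := by group
      _ = g⁻¹ * g⁻¹ := by rw [hx.tau]
      _ = g := by rw [hx.self.inv_eq, ← pow_add, pow_succ, hx.self.cube, one_mul]
  rwa [h2] at h1

theorem normalizer_ne_top {H : Subgroup G} (hH : Inv g H) (hne : H ≠ ⊥) :
    normalizer (H : Set G) ≠ ⊤ := by
  intro h
  have := hx.simple
  rcases (Subgroup.normalizer_eq_top_iff.mp h).eq_bot_or_eq_top with e | e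
  · exact hne e
  · exact hH.not_mem hx.self (e ▸ mem_top g)

theorem maxI_cj {H : Subgroup G} (hH : MaxI g H) : MaxI g (cj τ H) := by
  refine ⟨hx.tau_conj_mem hH.inv, fun h => hH.ne_bot ?_, fun K hK hle => ?_⟩
  · rw [← hx.cj_cj H, h]; exact Subgroup.map_bot _
  · have h1 := hH.eq_of_le _ (hx.tau_conj_mem hK) (by rw [← hx.cj_cj H]; exact cj_mono τ hle)
    rw [← h1, hx.cj_cj]

theorem normalizer_IA {H : Subgroup G} (hH : MaxI g H) :
    (Nat.card (normalizer (H : Set G)) = 3 * Nat.card H ∨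
      Nat.card (normalizer (H : Set G)) = 6 * Nat.card H) ∧
      ∀ D : Subgroup G, Inv g D → D ≤ normalizer (H : Set G) → D ≤ H := by
  have hgN : g ∈ normalizer (H : Set G) := hH.inv.mem_normalizer
  rcases hx.types _ (hx.normalizer_ne_top hH.inv hH.ne_bot) hgN with
    ⟨K, hKM, hKi, hKn, hKc⟩ | ⟨E, hE⟩ | hC
  · have hHK : H ≤ K := le_kernel hx.self hKM hKi hKn hKc hH.inv le_normalizer
    obtain rfl : K = H := hH.eq_of_le K hKi hHK
    exact ⟨hKc, fun D hD hDM => le_kernel hx.self hKM hKi hKn hKc hD hDM⟩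
  · exfalso
    have hHE : H ≤ E := hE.le_of_normal H hH.inv le_normalizer le_rfl
    obtain rfl : E = H := hH.eq_of_le E hE.inv hHE
    obtain ⟨D, hD, hlt, -⟩ := hE.exists_four
    exact hlt.ne (hH.eq_of_le D hD hlt.le).symm
  · exact absurd (hC H hH.inv le_normalizer le_rfl) hH.ne_bot

theorem card_normalizer_fixed {H : Subgroup G} (hH : MaxI g H) (hf : cj τ H = H) :
    Nat.card (normalizer (H : Set G)) = 6 * Nat.card H := by
  refine ((hx.normalizer_IA hH).1).resolve_left fun h => ?_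
  have hτ : τ ∈ normalizer (H : Set G) := mem_normalizer_of_cj hf
  set N := normalizer (H : Set G) with hN
  haveI : (H.subgroupOf N).Normal := (normal_subgroupOf_iff_le_normalizer le_normalizer).mpr le_rfl
  have hidx : (H.subgroupOf N).index = 3 := by
    have h1 := Subgroup.card_mul_index (H.subgroupOf N)
    rw [Nat.card_congr (subgroupOfEquivOfLe (le_normalizer : H ≤ N)).toEquiv, h, mul_comm 3] at h1
    exact Nat.eq_of_mul_eq_mul_left Nat.card_pos h1
  have h3 := Subgroup.pow_index_mem (H.subgroupOf N) (⟨τ, hτ⟩ : N)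
  rw [hidx, Subgroup.mem_subgroupOf, SubmonoidClass.coe_pow, pow_succ, pow_two, hx.tau_sq,
    one_mul] at h3
  exact hx.tau_not_mem hH.inv h3

theorem card_normalizer_twin {H : Subgroup G} (hH : MaxI g H) (hf : cj τ H ≠ H) :
    Nat.card (normalizer (H : Set G)) = 3 * Nat.card H := by
  refine ((hx.normalizer_IA hH).1).resolve_right fun h => ?_
  obtain ⟨-, hle⟩ := hx.normalizer_IA hH
  set N := normalizer (H : Set G) with hN
  have hgN : g ∈ N := hH.inv.mem_normalizer
  rcases (hx.self.subgroup hgN).complement_or_inverter with ⟨K, hKn, hKc, hKi⟩ | ⟨n, -, hn⟩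
  · have h1 := hle _ (map_subtype_inv hgN ⟨fun x hx' => hKn.conj_mem x hx' _, hKc⟩)
      (Subgroup.map_subtype_le K)
    have h2 := Subgroup.card_le_of_le h1
    rw [Subgroup.card_map_of_injective N.subtype_injective] at h2
    have h3 := Subgroup.card_mul_index K
    rw [hKi, h] at h3
    have : 0 < Nat.card H := Nat.card_pos
    omega
  · have hn' : (n : G) * g * (n : G)⁻¹ = g⁻¹ := congrArg Subtype.val hn
    have e : (n : G)⁻¹ * τ ∈ zpowers g := hx.self.cen _ (by
      calc (n : G)⁻¹ * τ * g = (n : G)⁻¹ * (τ * g * τ⁻¹) * τ := by group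
        _ = (n : G)⁻¹ * ((n : G) * g * (n : G)⁻¹) * τ := by rw [hx.tau, hn']
        _ = g * ((n : G)⁻¹ * τ) := by group)
    refine hf (cj_eq_of_mem ?_)
    have h2 : (n : G) * ((n : G)⁻¹ * τ) ∈ N := mul_mem n.2 (zpowers_le.mpr hgN e)
    rwa [mul_inv_cancel_left] at h2

/-- Distinct maximal invariant subgroups meet trivially, except for exceptional twins. -/
theorem meet {H H' : Subgroup G} (hH : MaxI g H) (hH' : MaxI g H') (hne : H' ≠ H)
    (hmeet : H ⊓ H' ≠ ⊥) : Special g τ H := by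
  obtain ⟨H2, ⟨hH2, hne2, hm2⟩, hmax⟩ := Set.exists_max_image
    {K : Subgroup G | MaxI g K ∧ K ≠ H ∧ H ⊓ K ≠ ⊥} (fun K => Nat.card (H ⊓ K : Subgroup G))
    (Set.toFinite _) ⟨H', hH', hne, hmeet⟩
  set I := H ⊓ H2 with hI
  have hIi : Inv g I := hH.inv.inf hH2.inv
  have hItop := hx.normalizer_ne_top hIi hm2
  have key : ∀ K, MaxI g K → I ≤ K → I < H ⊓ K → K = H := by
    intro K hK hle hlt
    by_contra h
    have h1 := hmax K ⟨hK, h, fun e => hm2 (le_bot_iff.mp (e ▸ le_inf inf_le_left hle))⟩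
    exact absurd (Subgroup.eq_of_le_of_card_ge hlt.le h1) hlt.ne
  have hIH : I < H := lt_of_le_of_ne inf_le_left fun e =>
    hne2 (hH.eq_of_le H2 hH2.inv (e ▸ inf_le_right))
  have hIH2 : I < H2 := lt_of_le_of_ne inf_le_right fun e =>
    hne2 (hH2.eq_of_le H hH.inv (e ▸ inf_le_left)).symm
  set N := normalizer (I : Set G) with hN
  have d1 : I < H ⊓ N := lt_inf_normalizer (hH.inv.isNilpotent hx.self) hIH
  have d2 : I < H2 ⊓ N := lt_inf_normalizer (hH2.inv.isNilpotent hx.self) hIH2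
  have i1 : Inv g (H ⊓ N) := hH.inv.normalizer_inf hIi
  have i2 : Inv g (H2 ⊓ N) := hH2.inv.normalizer_inf hIi
  rcases hx.types N hItop hIi.mem_normalizer with ⟨K, hKM, hKi, hKn, hKc⟩ | ⟨E, hE⟩ | hC
  · exfalso
    have l1 := le_kernel hx.self hKM hKi hKn hKc i1 inf_le_right
    have l2 := le_kernel hx.self hKM hKi hKn hKc i2 inf_le_right
    obtain ⟨H3, hH3, hKH3⟩ := exists_maxI hKi fun e => hm2 (le_bot_iff.mp (e ▸ (d1.le.trans l1)))
    have e3 : H3 = H := key H3 hH3 ((d1.le.trans l1).trans hKH3)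
      (d1.trans_le (le_inf inf_le_left (l1.trans hKH3)))
    exact (d2.trans_le (le_inf ((l2.trans hKH3).trans e3.le) inf_le_left)).ne rfl
  swap
  · exact absurd (hC I hIi le_normalizer le_rfl) hm2
  have hIE : I ≤ E := hE.le_of_normal I hIi le_normalizer le_rfl
  have s1 : Inv g ((H ⊓ N) ⊔ E) := i1.sup hE.inv (inf_le_right.trans hE.norm)
  obtain ⟨H3, hH3, hle3⟩ := exists_maxI s1 fun e =>
    hm2 (le_bot_iff.mp (e ▸ (d1.le.trans le_sup_left)))
  have e3 : H3 = H := key H3 hH3 ((d1.le.trans le_sup_left).trans hle3)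
    (d1.trans_le (le_inf inf_le_left (le_sup_left.trans hle3)))
  have hEH : E ≤ H := (le_sup_right.trans hle3).trans e3.le
  have s2 : Inv g ((H2 ⊓ N) ⊔ E) := i2.sup hE.inv (inf_le_right.trans hE.norm)
  obtain ⟨H4, hH4, hle4⟩ := exists_maxI s2 fun e =>
    hm2 (le_bot_iff.mp (e ▸ (d2.le.trans le_sup_left)))
  have hne4 : H4 ≠ H := fun e =>
    (d2.trans_le (le_inf ((le_sup_left.trans hle4).trans e.le) inf_le_left)).ne rfl
  have hEI : E = I := by
    have hm4 : I ≤ H ⊓ H4 := le_inf inf_le_left ((d2.le.trans le_sup_left).trans hle4)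
    have h1 : Nat.card (H ⊓ H4 : Subgroup G) ≤ Nat.card I :=
      hmax H4 ⟨hH4, hne4, fun e => hm2 (le_bot_iff.mp (e ▸ hm4))⟩
    exact le_antisymm ((Subgroup.eq_of_le_of_card_ge hm4 h1).symm ▸
      le_inf hEH (le_sup_right.trans hle4)) hIE
  subst hEI
  obtain ⟨hc1, hcj1, hfour⟩ := hE.four (H ⊓ N) i1 d1 inf_le_right
  obtain ⟨hc2, -, -⟩ := hE.four (H2 ⊓ N) i2 d2 inf_le_right
  have hD2 : H2 ⊓ N = cj τ (H ⊓ N) := (hfour _ i2 d2 inf_le_right).resolve_left fun e =>
    (d2.trans_le (le_inf (e.le.trans inf_le_left) inf_le_left)).ne rfl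
  have htwin : cj τ H ≠ H := fun e => by
    have h1 : cj τ (H ⊓ N) ≤ H ⊓ N := by
      rw [← hD2]
      refine le_inf ?_ inf_le_right
      rw [hD2]
      exact (cj_mono τ inf_le_left).trans e.le
    exact hcj1 (Subgroup.eq_of_le_of_card_ge h1 (card_cj τ _).ge)
  have hpD : IsPGroup 2 (H ⊓ N : Subgroup G) := by
    obtain ⟨k, hk⟩ := (isPGroup_two_of_sq hE.sq).exists_card_eq
    exact IsPGroup.of_card (n := k + 2) (by rw [hc1, hk, pow_add]; ring)
  have hp : IsPGroup 2 H := by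
    obtain ⟨k, m, hm, hcard⟩ := Nat.exists_eq_two_pow_mul_odd (Nat.card_pos (α := H)).ne'
    by_cases hm1 : m = 1
    · exact IsPGroup.of_card (n := k) (by rw [hcard, hm1, mul_one])
    · exfalso
      obtain ⟨q, hq, hqm⟩ := Nat.exists_prime_and_dvd hm1
      have : Fact q.Prime := ⟨hq⟩
      have hq2 : q ≠ 2 := by
        rintro rfl
        exact (Nat.not_even_iff_odd.mpr hm) (even_iff_two_dvd.mpr hqm)
      obtain ⟨y, hy⟩ := exists_prime_orderOf_dvd_card' (G := H) q (hcard ▸ hqm.mul_left _)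
      have hyo : orderOf (y : G) = q := by rw [Subgroup.orderOf_coe, hy]
      have hyN : (y : G) ∈ N := by
        refine mem_normalizer_of_forall fun e he => ?_
        rw [comm_of_pow_eq_one hH.inv hx.self y.2 (show e ∈ H from (mem_inf.mp he).1)
          (by rw [hyo]; exact fun h => hq2 ((Nat.prime_dvd_prime_iff_eq Nat.prime_two hq).mp h).symm)
          (hE.sq e he), mul_inv_cancel_right]
        exact he
      obtain ⟨j, hj⟩ := hpD ⟨(y : G), mem_inf.mpr ⟨y.2, hyN⟩⟩
      have h1 : orderOf (y : G) ∣ 2 ^ j := orderOf_dvd_of_pow_eq_one (congrArg Subtype.val hj)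
      rw [hyo] at h1
      exact hq2 ((Nat.prime_dvd_prime_iff_eq hq Nat.prime_two).mp (hq.dvd_of_dvd_pow h1))
  refine ⟨hp, htwin, ?_, ?_⟩
  · have := hE.large hm2
    have := Subgroup.card_le_of_le (inf_le_left : H ⊓ N ≤ H)
    omega
  · exact dvd_trans (dvd_trans (by norm_num) (dvd_mul_right 60 _))
      (hE.card ▸ Subgroup.card_subgroup_dvd_card N)

theorem disjoint_fixed {H H' : Subgroup G} (hH : MaxI g H) (hf : cj τ H = H) (hH' : MaxI g H')
    (hne : H' ≠ H) : H ⊓ H' = ⊥ := by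
  by_contra h
  exact (hx.meet hH hH' hne h).2.1 hf

/-- The Sylow subgroup of a maximal invariant subgroup is one of `G`. -/
theorem sylow_of_maxI {H : Subgroup G} (hH : MaxI g H) {p : ℕ} [Fact p.Prime]
    (hp : p ∣ Nat.card H) (hcond : p ≠ 2 ∨ cj τ H ≠ H) :
    ∃ S : Sylow p G, (S : Subgroup G) ≤ H ∧ Inv g (S : Subgroup G) ∧
      ∀ D : Subgroup G, Inv g D → D ≤ normalizer ((S : Subgroup G) : Set G) → D ≤ H := by
  have hp' : p.Prime := Fact.out
  haveI : Group.IsNilpotent H := hH.inv.isNilpotent hx.self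
  obtain ⟨S0⟩ : Nonempty (Sylow p H) := Sylow.nonempty
  have hnorm : (S0 : Subgroup H).Normal :=
    Sylow.normal_of_normalizerCondition Group.normalizerCondition_of_isNilpotent S0
  haveI hchar : (S0 : Subgroup H).Characteristic := Sylow.characteristic_of_normal S0 hnorm
  set P : Subgroup G := (S0 : Subgroup H).map H.subtype with hP
  have hPH : P ≤ H := Subgroup.map_subtype_le _
  have hPi : Inv g P := by
    refine hH.inv.mono hPH ?_
    rintro _ ⟨x, hx', rfl⟩
    exact ⟨hH.inv.aut x,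
      Subgroup.mem_comap.mp ((Subgroup.characteristic_iff_comap_eq.mp hchar hH.inv.aut).symm ▸ hx'), rfl⟩
  have hPp : IsPGroup p P := S0.isPGroup'.map _
  have hPne : P ≠ ⊥ := by
    intro h
    refine S0.ne_bot_of_dvd_card hp ?_
    rwa [hP, Subgroup.map_eq_bot_iff_of_injective _ H.subtype_injective] at h
  have hHN : H ≤ normalizer (P : Set G) := le_normalizer_map_subtype (hK := hnorm) _
  set N := normalizer (P : Set G) with hN
  have hgN : g ∈ N := hPi.mem_normalizer
  have hIAc : (Nat.card N = 3 * Nat.card H ∨ Nat.card N = 6 * Nat.card H) ∧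
      N ≤ normalizer (H : Set G) ∧ ∀ D : Subgroup G, Inv g D → D ≤ N → D ≤ H := by
    rcases hx.types N (hx.normalizer_ne_top hPi hPne) hgN with ⟨K, hKM, hKi, hKn, hKc⟩ | ⟨E, hE⟩ | hC
    · obtain rfl : K = H := hH.eq_of_le K hKi (le_kernel hx.self hKM hKi hKn hKc hH.inv hHN)
      exact ⟨hKc, hKn, fun D hD hDM => le_kernel hx.self hKM hKi hKn hKc hD hDM⟩
    · exfalso
      have hPE : P ≤ E := hE.le_of_normal P hPi le_normalizer le_rfl
      have hs : Inv g (H ⊔ E) := hH.inv.sup hE.inv (hHN.trans hE.norm)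
      have hEH : E ≤ H := le_sup_right.trans (hH.eq_of_le _ hs le_sup_left).le
      have hlt : E < H := by
        refine lt_of_le_of_ne hEH fun e => ?_
        obtain ⟨D, hD, hlt, -⟩ := hE.exists_four
        exact hlt.ne (e.trans (hH.eq_of_le D hD (e ▸ hlt.le)).symm)
      obtain ⟨hc, -, -⟩ := hE.four H hH.inv hlt hHN
      obtain ⟨k, hk⟩ := (isPGroup_two_of_sq hE.sq).exists_card_eq
      have hp2 : p = 2 := by
        rw [hc, hk, show (4 : ℕ) = 2 ^ 2 by rfl, ← pow_add] at hp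
        exact (Nat.prime_dvd_prime_iff_eq hp' Nat.prime_two).mp (hp'.dvd_of_dvd_pow hp)
      subst hp2
      have htop : (S0 : Subgroup H) = ⊤ :=
        (S0.3 (Q := ⊤) ((IsPGroup.of_card (n := k + 2) (by rw [hc, hk, pow_add]; ring) :
          IsPGroup 2 H).to_subgroup _) le_top).symm
      rw [hP, htop, ← MonoidHom.range_eq_map, Subgroup.range_subtype] at hPE
      exact hlt.not_ge hPE
    · exact absurd (hC P hPi le_normalizer le_rfl) hPne
  obtain ⟨hcN, hNH, hle⟩ := hIAc
  have hidx : ¬ p ∣ (P.subgroupOf N).index := by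
    intro hd
    have h1 := Subgroup.card_mul_index (P.subgroupOf N)
    rw [Nat.card_congr (subgroupOfEquivOfLe (le_normalizer : P ≤ N)).toEquiv] at h1
    have h2 := Subgroup.card_mul_index (S0 : Subgroup H)
    have hPc : Nat.card P = Nat.card (S0 : Subgroup H) :=
      Subgroup.card_map_of_injective H.subtype_injective
    rw [← h2] at hcN
    rw [hPc] at h1
    have h0 : 0 < Nat.card (S0 : Subgroup H) := Nat.card_pos
    have hnd := S0.not_dvd_index
    rcases hcN with e | e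
    · have e' : (P.subgroupOf N).index = 3 * (S0 : Subgroup H).index := by
        apply Nat.eq_of_mul_eq_mul_left h0
        rw [h1, e]; ring
      rw [e'] at hd
      rcases hp'.dvd_mul.mp hd with h | h
      · exact hH.inv.cop ((Nat.prime_dvd_prime_iff_eq hp' Nat.prime_three).mp h ▸ hp)
      · exact hnd h
    · have e' : (P.subgroupOf N).index = 6 * (S0 : Subgroup H).index := by
        apply Nat.eq_of_mul_eq_mul_left h0
        rw [h1, e]; ring
      rw [e'] at hd
      rcases hp'.dvd_mul.mp hd with h | h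
      · rcases hp'.dvd_mul.mp (show p ∣ 2 * 3 from h) with h' | h'
        · have htw := hcond.resolve_left
            (not_not.mpr ((Nat.prime_dvd_prime_iff_eq hp' Nat.prime_two).mp h'))
          have h3 := Subgroup.card_le_of_le hNH
          rw [hx.card_normalizer_twin hH htw, e, h2] at h3
          have : 0 < Nat.card H := Nat.card_pos
          omega
        · exact hH.inv.cop ((Nat.prime_dvd_prime_iff_eq hp' Nat.prime_three).mp h' ▸ hp)
      · exact hnd h
  obtain ⟨S, hPS⟩ := hPp.exists_le_sylow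
  have hSP : (S : Subgroup G) = P := by
    by_contra hne
    have hlt : P < (S : Subgroup G) := lt_of_le_of_ne hPS (Ne.symm hne)
    have hgrow := lt_inf_normalizer S.isPGroup'.isNilpotent hlt
    apply hidx
    set R := (S : Subgroup G) ⊓ N with hR
    have hRp : IsPGroup p R := S.isPGroup'.to_le inf_le_left
    obtain ⟨a, ha⟩ := hRp.exists_card_eq
    obtain ⟨b, hb⟩ := hPp.exists_card_eq
    have hlt' : Nat.card P < Nat.card R :=
      lt_of_le_of_ne (Subgroup.card_le_of_le hgrow.le)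
        fun e => hgrow.ne (Subgroup.eq_of_le_of_card_ge hgrow.le e.ge)
    rw [ha, hb] at hlt'
    have hba : b < a := (Nat.pow_lt_pow_iff_right hp'.one_lt).mp hlt'
    have h1 : p ^ (b + 1) ∣ Nat.card N :=
      ((pow_dvd_pow p hba).trans (dvd_of_eq ha.symm)).trans (Subgroup.card_dvd_of_le inf_le_right)
    rw [← Subgroup.card_mul_index (P.subgroupOf N),
      Nat.card_congr (subgroupOfEquivOfLe (le_normalizer : P ≤ N)).toEquiv, hb, pow_succ] at h1
    exact (Nat.mul_dvd_mul_iff_left (pow_pos hp'.pos b)).mp h1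
  exact ⟨S, hSP ▸ hPH, hSP ▸ hPi, fun D hD hDN => hle D hD (by rw [hSP] at hDN; exact hDN)⟩

/-- Two maximal invariant subgroups sharing a prime are equal or twins. -/
theorem shared_prime {H H' : Subgroup G} (hH : MaxI g H) (hH' : MaxI g H') {p : ℕ}
    (hp : p.Prime) (h1 : p ∣ Nat.card H) (h2 : p ∣ Nat.card H')
    (hcond : p ≠ 2 ∨ (cj τ H ≠ H ∧ cj τ H' ≠ H')) : H' = H ∨ H' = cj τ H := by
  have : Fact p.Prime := ⟨hp⟩
  obtain ⟨S, hS, hSi, hSle⟩ := hx.sylow_of_maxI hH h1 (hcond.imp id And.left)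
  obtain ⟨S', hS', hSi', hSle'⟩ := hx.sylow_of_maxI hH' h2 (hcond.imp id And.right)
  obtain ⟨a, ha⟩ := MulAction.exists_smul_eq G S S'
  have ha' : ∀ x, x ∈ (S : Subgroup G) → a * x * a⁻¹ ∈ (S' : Subgroup G) := by
    intro x hx'
    rw [← ha]
    exact ⟨x, hx', rfl⟩
  have hcard : Nat.card (S : Subgroup G) = Nat.card (S' : Subgroup G) :=
    S.card_eq_multiplicity.trans S'.card_eq_multiplicity.symm
  set N' := normalizer ((S' : Subgroup G) : Set G) with hN'
  have hgN : g ∈ N' := hSi'.mem_normalizer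
  have hagN : a * g * a⁻¹ ∈ N' := by
    refine mem_normalizer_of_forall fun x hx' => ?_
    rw [← ha] at hx'
    obtain ⟨y, hy, rfl⟩ := hx'
    show a * g * a⁻¹ * (a * y * a⁻¹) * (a * g * a⁻¹)⁻¹ ∈ _
    rw [show a * g * a⁻¹ * (a * y * a⁻¹) * (a * g * a⁻¹)⁻¹ = a * (g * y * g⁻¹) * a⁻¹ by group]
    exact ha' _ (hSi.conj y hy)
  obtain ⟨b, hb⟩ := (hx.self.subgroup hgN).exists_conj (y := (⟨a * g * a⁻¹, hagN⟩ : N'))
    (by rw [Subgroup.orderOf_mk]; exact (hx.self.conj_iff a).ord)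
  set c := (b : G)⁻¹ * a with hc
  have hcg : c * g * c⁻¹ = g ∨ c * g * c⁻¹ = g⁻¹ := by
    rcases hb with h | h
    · left
      have h' : (b : G) * g * (b : G)⁻¹ = a * g * a⁻¹ := congrArg Subtype.val h
      calc c * g * c⁻¹ = (b : G)⁻¹ * (a * g * a⁻¹) * b := by rw [hc]; group
        _ = g := by rw [← h']; group
    · right
      have h' : (b : G) * g * (b : G)⁻¹ = (a * g * a⁻¹)⁻¹ := congrArg Subtype.val h
      calc c * g * c⁻¹ = ((b : G)⁻¹ * (a * g * a⁻¹)⁻¹ * b)⁻¹ := by rw [hc]; group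
        _ = g⁻¹ := by rw [← h']; group
  have hcS : cj c (S : Subgroup G) = (S' : Subgroup G) := by
    refine Subgroup.eq_of_le_of_card_ge ?_ (by rw [card_cj, hcard])
    rintro _ ⟨x, hx', rfl⟩
    show c * x * c⁻¹ ∈ _
    have := (mem_normalizer_iff.mp (inv_mem b.2 : (b : G)⁻¹ ∈ N') _).mp (ha' x hx')
    rw [inv_inv] at this
    rw [show c * x * c⁻¹ = (b : G)⁻¹ * (a * x * a⁻¹) * b by rw [hc]; group]
    exact this
  have hfix : ∀ c' ∈ zpowers g, cj c' (S : Subgroup G) = (S : Subgroup G) := fun c' hc' =>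
    cj_eq_of_mem (zpowers_le.mpr hSi.mem_normalizer hc')
  have hHS : H ≤ normalizer ((S : Subgroup G) : Set G) ∧
      H' ≤ normalizer ((S' : Subgroup G) : Set G) := by
    constructor
    · haveI : Group.IsNilpotent H := hH.inv.isNilpotent hx.self
      have hn : ((S.subtype hS) : Subgroup H).Normal :=
        Sylow.normal_of_normalizerCondition Group.normalizerCondition_of_isNilpotent _
      exact (normal_subgroupOf_iff_le_normalizer hS).mp hn
    · haveI : Group.IsNilpotent H' := hH'.inv.isNilpotent hx.self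
      have hn : ((S'.subtype hS') : Subgroup H').Normal :=
        Sylow.normal_of_normalizerCondition Group.normalizerCondition_of_isNilpotent _
      exact (normal_subgroupOf_iff_le_normalizer hS').mp hn
  rcases hcg with h | h
  · have hcX : c ∈ zpowers g := hx.self.cen c (mul_inv_eq_iff_eq_mul.mp h)
    rw [hfix c hcX] at hcS
    have h3 := hSle H' hH'.inv (by rw [hcS]; exact hHS.2)
    exact Or.inl (hH'.eq_of_le H hH.inv h3).symm
  · have hX : τ * c ∈ zpowers g := hx.self.cen _ (by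
      calc τ * c * g = τ * (c * g * c⁻¹) * c := by group
        _ = (τ * g * τ⁻¹)⁻¹ * (τ * c) := by rw [h]; group
        _ = g * (τ * c) := by rw [hx.tau, inv_inv])
    have e : cj τ (S : Subgroup G) = (S' : Subgroup G) := by
      rw [← hcS]
      conv_rhs => rw [show c = τ * (τ * c) by rw [← mul_assoc, hx.tau_sq, one_mul], cj_mul,
        hfix _ hX]
    right
    refine ((hx.maxI_cj hH).eq_of_le H' hH'.inv ?_)
    refine hSle' _ (hx.maxI_cj hH).inv ?_
    rintro _ ⟨x, hx', rfl⟩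
    refine mem_normalizer_of_forall ?_
    rw [← e]
    rintro _ ⟨y, hy, rfl⟩
    exact ⟨x * y * x⁻¹, (mem_normalizer_iff.mp (hHS.1 hx') y).mp hy,
        show τ * (x * y * x⁻¹) * τ⁻¹ = τ * x * τ⁻¹ * (τ * y * τ⁻¹) * (τ * x * τ⁻¹)⁻¹ by group⟩

/-- Maximal invariant subgroups from different pairs meet trivially. -/
theorem disjoint_of_ne {H H' : Subgroup G} (hH : MaxI g H) (hH' : MaxI g H') (hne : H' ≠ H)
    (hne' : H' ≠ cj τ H) : H ⊓ H' = ⊥ := by
  by_contra h
  obtain ⟨hp, ht, hc, -⟩ := hx.meet hH hH' hne h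
  obtain ⟨hp', ht', hc', -⟩ := hx.meet hH' hH hne.symm (inf_comm H H' ▸ h)
  have d : ∀ K : Subgroup G, IsPGroup 2 K → 64 ≤ Nat.card K → 2 ∣ Nat.card K := fun K hK hK' => by
    have : Fact (Nat.Prime 2) := ⟨Nat.prime_two⟩
    obtain ⟨k, hk⟩ := hK.exists_card_eq
    rw [hk] at hK' ⊢
    exact dvd_pow_self 2 fun h0 => by rw [h0] at hK'; norm_num at hK'
  exact (hx.shared_prime hH hH' Nat.prime_two (d H hp hc) (d H' hp' hc') (Or.inr ⟨ht, ht'⟩)).elim hne hne'

end Ctx

end Cfsg.Agent.Lib.InvChar.SelfThree
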