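import Cfsg.Agent.Lib.InvChar.SelfThree.AFive

/-!
# Self-centralizing elements of order three: the three types of subgroups
-/

set_option autoImplicit false
set_option linter.unusedSectionVars false
set_option linter.dupNamespace false
set_option linter.style.haveILetI false

namespace Cfsg.Agent.Lib.InvChar.SelfThree

open Subgroup

universe u

/-- The three types of groups with a self-centralizing element of order three. -/
def Types (G : Type u) [Group G] : Prop :=
  (∃ K : Subgroup G, K.Normal ∧ ¬ 3 ∣ Nat.card K ∧ (K.index = 3 ∨ K.index = 6)) ∨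
  (∃ φ : G →* alternatingGroup (Fin 5), Function.Surjective φ ∧ ¬ 3 ∣ Nat.card φ.ker) ∨
  (IsSimpleGroup G ∧ Nat.card G = 168)

variable {G : Type u} [Group G] [Finite G]

/-- Conjugate of a subgroup. -/
def cj (t : G) (H : Subgroup G) : Subgroup G := H.map (MulAut.conj t).toMonoidHom

theorem mem_cj {t : G} {H : Subgroup G} {x : G} : x ∈ cj t H ↔ ∃ y ∈ H, t * y * t⁻¹ = x :=
  Iff.rfl

theorem card_cj (t : G) (H : Subgroup G) : Nat.card (cj t H) = Nat.card H :=
  Subgroup.card_map_of_injective (MulAut.conj t).injective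

theorem cj_mono (t : G) {H K : Subgroup G} (h : H ≤ K) : cj t H ≤ cj t K := Subgroup.map_mono h

theorem cj_mul (s t : G) (H : Subgroup G) : cj (s * t) H = cj s (cj t H) := by
  ext x
  simp only [mem_cj]
  refine ⟨?_, ?_⟩
  · rintro ⟨y, hy, rfl⟩; exact ⟨_, ⟨y, hy, rfl⟩, by group⟩
  · rintro ⟨_, ⟨y, hy, rfl⟩, rfl⟩; exact ⟨y, hy, by group⟩

theorem cj_one (H : Subgroup G) : cj 1 H = H := by
  ext x; simp [mem_cj]

theorem cj_eq_of_mem {t : G} {H : Subgroup G} (h : t ∈ normalizer (H : Set G)) : cj t H = H := by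
  refine Subgroup.eq_of_le_of_card_ge ?_ (card_cj t H).ge
  rintro x ⟨y, hy, rfl⟩
  exact (Subgroup.mem_normalizer_iff.mp h y).mp hy

theorem mem_normalizer_of_cj {t : G} {H : Subgroup G} (h : cj t H = H) :
    t ∈ normalizer (H : Set G) :=
  mem_normalizer_of_forall fun x hx => h ▸ mem_cj.mpr ⟨x, hx, rfl⟩

/-- Type (A) for a subgroup. -/
def IA (g : G) (M : Subgroup G) : Prop :=
  ∃ K : Subgroup G, K ≤ M ∧ Inv g K ∧ M ≤ normalizer (K : Set G) ∧
    (Nat.card M = 3 * Nat.card K ∨ Nat.card M = 6 * Nat.card K)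

/-- Type (B) for a subgroup, with what we need of it. -/
structure IB (g τ : G) (M E : Subgroup G) : Prop where
  le : E ≤ M
  inv : Inv g E
  norm : M ≤ normalizer (E : Set G)
  comm : ∀ a ∈ E, ∀ b ∈ E, a * b = b * a
  sq : ∀ a ∈ E, a * a = 1
  card : Nat.card M = 60 * Nat.card E
  large : E ≠ ⊥ → 16 ≤ Nat.card E
  tau_mem : τ ∈ M
  exists_four : ∃ D : Subgroup G, Inv g D ∧ E < D ∧ D ≤ M
  le_of_normal : ∀ D : Subgroup G, Inv g D → D ≤ M → M ≤ normalizer (D : Set G) → D ≤ E
  four : ∀ D : Subgroup G, Inv g D → E < D → D ≤ M →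
    Nat.card D = 4 * Nat.card E ∧ cj τ D ≠ D ∧
      ∀ D' : Subgroup G, Inv g D' → E < D' → D' ≤ M → D' = D ∨ D' = cj τ D

/-- Type (C) for a subgroup. -/
def IC (g : G) (M : Subgroup G) : Prop :=
  ∀ D : Subgroup G, Inv g D → D ≤ M → M ≤ normalizer (D : Set G) → D = ⊥

/-- In type (A), every invariant subgroup lies in the kernel. -/
theorem le_kernel {g : G} (hg : SelfThree g) {M K : Subgroup G} (hK : K ≤ M) (hKi : Inv g K)
    (hn : M ≤ normalizer (K : Set G)) (hc : Nat.card M = 3 * Nat.card K ∨ Nat.card M = 6 * Nat.card K)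
    {D : Subgroup G} (hD : Inv g D) (hDM : D ≤ M) : D ≤ K := by
  have hs := hD.sup hKi (hDM.trans hn)
  obtain ⟨j, hj⟩ := Subgroup.card_dvd_of_le (le_sup_right : K ≤ D ⊔ K)
  have h1 := Subgroup.card_dvd_of_le (sup_le hDM hK)
  have h2 := hs.card_mod_three hg
  have h3 := hKi.card_mod_three hg
  have h4 : j % 3 = 1 := by rw [hj, Nat.mul_mod, h3, one_mul, Nat.mod_mod] at h2; exact h2
  have h6 : j ∣ 6 := by
    rw [hj] at h1
    rcases hc with e | e <;> rw [e, mul_comm _ (Nat.card K), Nat.mul_dvd_mul_iff_left Nat.card_pos] at h1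
    · exact h1.trans (by norm_num)
    · exact h1
  have hj1 : j = 1 := by
    have := Nat.le_of_dvd (by norm_num) h6
    have : j = 1 ∨ j = 4 := by omega
    rcases this with e | e
    · exact e
    · rw [e] at h6; norm_num at h6
  have e : K = D ⊔ K := Subgroup.eq_of_le_of_card_ge le_sup_right (by rw [hj, hj1, mul_one])
  rw [e]; exact le_sup_left

theorem map_subtype_inv {g : G} {M : Subgroup G} (hgM : g ∈ M) {K : Subgroup M}
    (hK : Inv (⟨g, hgM⟩ : M) K) : Inv g (K.map M.subtype) := by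
  refine ⟨?_, by rw [Subgroup.card_map_of_injective M.subtype_injective]; exact hK.cop⟩
  rintro _ ⟨x, hx, rfl⟩
  exact ⟨_, hK.conj x hx, rfl⟩

theorem subgroupOf_inv {g : G} {M D : Subgroup G} (hgM : g ∈ M) (hDM : D ≤ M) (hD : Inv g D) :
    Inv (⟨g, hgM⟩ : M) (D.subgroupOf M) :=
  ⟨fun x hx => hD.conj _ hx,
    by rw [Nat.card_congr (subgroupOfEquivOfLe hDM).toEquiv]; exact hD.cop⟩

theorem le_normalizer_map_subtype {M : Subgroup G} (K : Subgroup M) [hK : K.Normal] :
    M ≤ normalizer ((K.map M.subtype : Subgroup G) : Set G) := by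
  intro a ha
  refine mem_normalizer_of_forall ?_
  rintro _ ⟨x, hx, rfl⟩
  exact ⟨_, hK.conj_mem x hx ⟨a, ha⟩, rfl⟩

/-- The types of a subgroup containing `g`. -/
theorem types_internal {g τ : G} (hg : SelfThree g) (hτ : τ * g * τ⁻¹ = g⁻¹) {M : Subgroup G}
    (hgM : g ∈ M) (h : Types M) : IA g M ∨ (∃ E, IB g τ M E) ∨ IC g M := by
  set g' : M := ⟨g, hgM⟩ with hg'def
  have hg' : SelfThree g' := hg.subgroup hgM
  rcases h with ⟨K, hKn, hKc, hKi⟩ | ⟨φ, hφ, hφc⟩ | ⟨hs, hcard⟩
  · refine Or.inl ⟨K.map M.subtype, Subgroup.map_subtype_le K,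
      map_subtype_inv hgM ⟨fun x hx => hKn.conj_mem x hx g', hKc⟩, le_normalizer_map_subtype K, ?_⟩
    rw [Subgroup.card_map_of_injective M.subtype_injective, ← Subgroup.card_mul_index K,
      mul_comm 3, mul_comm 6]
    rcases hKi with e | e <;> rw [e] <;> simp
  · obtain ⟨d, hd⟩ := fiveData_of_hom hg' φ hφ hφc
    obtain ⟨hcomm, hsq, hlarge⟩ := d.elem hg'
    have hEn : d.φ.ker.Normal := MonoidHom.normal_ker d.φ
    set E := d.φ.ker.map M.subtype with hE
    have hEc : Nat.card E = Nat.card d.φ.ker := Subgroup.card_map_of_injective M.subtype_injective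
    obtain ⟨n, hn⟩ := d.exists_inverter hg'
    have hn' : (n : G) * g * (n : G)⁻¹ = g⁻¹ := congrArg Subtype.val hn
    have hτM : τ ∈ M := by
      have e : τ⁻¹ * n ∈ zpowers g := hg.cen _ (by
        have : τ * g = g⁻¹ * τ := by rw [← hτ]; group
        calc τ⁻¹ * n * g = τ⁻¹ * ((n : G) * g * (n : G)⁻¹) * n := by group
          _ = τ⁻¹ * (τ * g * τ⁻¹) * n := by rw [hn', hτ]
          _ = g * (τ⁻¹ * n) := by group)
      have h2 := zpowers_le.mpr hgM e
      have : τ = n * (τ⁻¹ * n)⁻¹ := by group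
      rw [this]
      exact mul_mem n.2 (inv_mem h2)
    have hDn : ∀ D : Subgroup G, Inv g D → E < D → D ≤ M →
        ∃ (i : Fin 5) (hi : i = 3 ∨ i = 4), D = ((FiveData.fourSub i hi).comap d.φ).map M.subtype := by
      intro D hD hED hDM
      rcases d.inv_cases hg' (subgroupOf_inv hgM hDM hD) (fun x hx => hED.le ⟨x, hx, rfl⟩) with e | ⟨i, hi, e⟩
      · exfalso
        refine hED.ne ?_
        rw [hE, ← e, subgroupOf_map_subtype, inf_of_le_left hDM]
      · refine ⟨i, hi, ?_⟩
        rw [← e, subgroupOf_map_subtype, inf_of_le_left hDM]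
    have hcjne : ∀ (i : Fin 5) (hi : i = 3 ∨ i = 4),
        ∃ (j : Fin 5) (hj : j = 3 ∨ j = 4), j ≠ i ∧
          cj τ (((FiveData.fourSub i hi).comap d.φ).map M.subtype) =
            ((FiveData.fourSub j hj).comap d.φ).map M.subtype := by
      intro i hi
      have hτ' : (⟨τ, hτM⟩ : M) * g' * (⟨τ, hτM⟩ : M)⁻¹ = g'⁻¹ := Subtype.ext hτ
      obtain ⟨j, hj, hji⟩ : ∃ (j : Fin 5) (_ : j = 3 ∨ j = 4), j ≠ i := by
        rcases hi with rfl | rfl
        · exact ⟨4, Or.inr rfl, by decide⟩
        · exact ⟨3, Or.inl rfl, by decide⟩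
      refine ⟨j, hj, hji, Subgroup.eq_of_le_of_card_ge ?_ ?_⟩
      · rintro _ ⟨_, ⟨a, ha, rfl⟩, rfl⟩
        obtain ⟨j', hj', hji', hm⟩ := d.inverter_moves hτ' i hi ha
        obtain rfl : j' = j := by
          rcases hi with rfl | rfl <;> rcases hj with rfl | rfl <;> rcases hj' with rfl | rfl <;>
            first | rfl | exact absurd rfl hji | exact absurd rfl hji'
        exact ⟨_, hm, rfl⟩
      · rw [card_cj, Subgroup.card_map_of_injective M.subtype_injective,
          Subgroup.card_map_of_injective M.subtype_injective, card_comap d.φ d.surj,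
          card_comap d.φ d.surj, FiveData.card_fourSub, FiveData.card_fourSub]
    have hne : ∀ (i j : Fin 5) (hi : i = 3 ∨ i = 4) (hj : j = 3 ∨ j = 4), i ≠ j →
        ((FiveData.fourSub i hi).comap d.φ).map M.subtype ≠
          ((FiveData.fourSub j hj).comap d.φ).map M.subtype := by
      intro i j hi hj hij e
      have e' := Subgroup.comap_injective d.surj (Subgroup.map_injective M.subtype_injective e)
      have key : ∀ i j : Fin 5, (i = 3 ∨ i = 4) → (j = 3 ∨ j = 4) → i ≠ j →
          ∃ a ∈ [AFive.x, AFive.y], a ^ 2 = 1 ∧ (a : Equiv.Perm (Fin 5)) i = i ∧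
            (a : Equiv.Perm (Fin 5)) j ≠ j := by decide +kernel
      obtain ⟨a, -, ha, hai, haj⟩ := key i j hi hj hij
      exact haj (show a ∈ FiveData.fourSub j hj from e' ▸ ⟨ha, hai⟩).2
    refine Or.inr (Or.inl ⟨E, ?_⟩)
    constructor
    · exact Subgroup.map_subtype_le _
    · exact map_subtype_inv hgM d.inv_ker
    · exact le_normalizer_map_subtype _
    · rintro _ ⟨a, ha, rfl⟩ _ ⟨b, hb, rfl⟩
      exact congrArg Subtype.val (hcomm a ha b hb)
    · rintro _ ⟨a, ha, rfl⟩
      exact congrArg Subtype.val (hsq a ha)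
    · rw [hEc, d.card_eq]
    · intro h
      rw [hEc]
      exact hlarge fun e => h (by rw [hE, e, Subgroup.map_bot])
    · exact hτM
    · refine ⟨((FiveData.fourSub 4 (Or.inr rfl)).comap d.φ).map M.subtype,
        map_subtype_inv hgM (d.inv_comap 4 (Or.inr rfl)),
        lt_of_le_of_ne (Subgroup.map_mono (MonoidHom.ker_le_comap _ _)) fun e => ?_,
        Subgroup.map_subtype_le _⟩
      have h := congrArg (fun K : Subgroup G => Nat.card K) e
      simp only [hE] at h
      rw [Subgroup.card_map_of_injective M.subtype_injective,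
        Subgroup.card_map_of_injective M.subtype_injective, card_comap d.φ d.surj,
        FiveData.card_fourSub] at h
      have : 0 < Nat.card d.φ.ker := Nat.card_pos
      omega
    · intro D hD hDM hMD
      by_contra hle
      have hs := hD.sup (map_subtype_inv hgM d.inv_ker) (hDM.trans (le_normalizer_map_subtype _))
      have hlt : E < D ⊔ E := lt_of_le_of_ne le_sup_right fun e => hle (e.symm ▸ le_sup_left)
      obtain ⟨i, hi, e⟩ := hDn _ hs hlt (sup_le hDM (Subgroup.map_subtype_le _))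
      obtain ⟨j, hj, hji, e'⟩ := hcjne i hi
      refine hne j i hj hi hji ?_
      rw [← e', ← e]
      unfold cj
      rw [Subgroup.map_sup]
      exact congrArg₂ (· ⊔ ·) (cj_eq_of_mem (hMD hτM)) (cj_eq_of_mem (le_normalizer_map_subtype _ hτM))
    · intro D hD hED hDM
      obtain ⟨i, hi, e⟩ := hDn D hD hED hDM
      obtain ⟨j, hj, hji, e'⟩ := hcjne i hi
      refine ⟨?_, fun h => hne j i hj hi hji (by rw [← e', ← e, h]), fun D' hD' hED' hDM' => ?_⟩
      · rw [e, Subgroup.card_map_of_injective M.subtype_injective, card_comap d.φ d.surj,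
          FiveData.card_fourSub, hEc, mul_comm]
      · obtain ⟨k, hk, ek⟩ := hDn D' hD' hED' hDM'
        by_cases hki : k = i
        · subst hki; exact Or.inl (ek.trans e.symm)
        · refine Or.inr ?_
          obtain rfl : k = j := by
            rcases hi with rfl | rfl <;> rcases hj with rfl | rfl <;> rcases hk with rfl | rfl <;>
              first | rfl | exact absurd rfl hji | exact absurd rfl hki
          rw [e, e', ek]
  · refine Or.inr (Or.inr fun D hD hDM hMD => ?_)
    have hn : (D.subgroupOf M).Normal := (normal_subgroupOf_iff_le_normalizer hDM).mpr hMD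
    rcases hn.eq_bot_or_eq_top with e | e
    · rw [subgroupOf_eq_bot] at e
      exact eq_bot_iff.mpr (le_trans (le_inf le_rfl hDM) (disjoint_iff.mp e).le)
    · exact absurd ((subgroupOf_eq_top.mp e) hgM) (hD.not_mem hg)

end Cfsg.Agent.Lib.InvChar.SelfThree
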